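import Cfsg.Agent.Lib.CIT.Offender.Dispatch

/-!
# The offender lemma for CIT groups: outer parts over the socle

By the Frattini argument the outer part is covered by the normalizer of a cyclic Sylow subgroup `S` of
the socle, whose 2-subgroups embed in the automorphism group of `S`.
-/

set_option autoImplicit false
set_option linter.unusedSectionVars false

namespace Cfsg.Agent.CIT.Offender

open Subgroup

universe u

/-- Burnside: the normalizer of a Sylow subgroup of a simple group does not centralize it. -/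
theorem normalizer_not_le_centralizer {L : Type u} [Group L] [Finite L] [IsSimpleGroup L]
    (hna : ¬ IsMulCommutative L) {p : ℕ} [Fact p.Prime] (S : Sylow p L) (hp : p ∣ Nat.card L) :
    ¬ normalizer ((S : Subgroup L) : Set L) ≤ centralizer ((S : Subgroup L) : Set L) := by
  intro hle
  have hc := MonoidHom.ker_transferSylow_isComplement' S hle
  rcases IsSimpleGroup.eq_bot_or_eq_top_of_normal _ (MonoidHom.normal_ker (MonoidHom.transferSylow S hle))
    with h | h
  · rw [h] at hc
    have hS : (S : Subgroup L) = ⊤ := isComplement'_bot_left.1 hc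
    have hL : IsPGroup p L := (hS ▸ S.isPGroup').of_equiv Subgroup.topEquiv
    have := hL.isNilpotent
    apply hna
    have hcen : Subgroup.center L = ⊤ :=
      ((IsSimpleGroup.eq_bot_or_eq_top_of_normal _ inferInstance).resolve_left
        (Group.IsNilpotent.center_ne_bot L))
    exact ⟨⟨fun a b => (Subgroup.mem_center_iff.1 (hcen ▸ mem_top a) b).symm⟩⟩
  · rw [h] at hc
    exact S.ne_bot_of_dvd_card hp (isComplement'_top_left.1 hc)

variable {X : Type u} [Group X] [Finite X]

theorem eq_one_of_two_pow_commute (hX : IsCIT X) {b s : X} {k : ℕ} (hb : b ^ 2 ^ k = 1)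
    (hs : s ≠ 1) (hso : Odd (orderOf s)) (hc : s * b = b * s) : b = 1 := by
  by_contra hb1
  obtain ⟨i, -, hi⟩ := (Nat.dvd_prime_pow Nat.prime_two).1 (orderOf_dvd_of_pow_eq_one hb)
  obtain ⟨j, hj, hj1⟩ := exists_involution_pow ⟨i, hi⟩ hb1
  exact hs (eq_one_of_commute hX hj hj1 hso ((show Commute s b from hc).pow_right j).eq)

/-- A 2-subgroup normalizing a cyclic subgroup of odd prime power order embeds in its automorphisms. -/
theorem two_subgroup_aut (hX : IsCIT X) {p k : ℕ} [Fact p.Prime] (hp : p ≠ 2) {S : Subgroup X}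
    [IsCyclic S] (hS : Nat.card S = p ^ k) (hS1 : S ≠ ⊥) {T : Subgroup X} (hT : IsPGroup 2 T)
    (hTS : T ≤ normalizer (S : Set X)) :
    IsCyclic T ∧ Nat.card T ∣ (p ^ k).totient := by
  let f : T →* MulAut S := (normalizerMonoidHom S).comp (Subgroup.inclusion hTS)
  have hf : Function.Injective f := by
    rw [injective_iff_map_eq_one]
    intro t ht
    obtain ⟨j, hj⟩ := hT t
    obtain ⟨⟨s, hs⟩, hs1⟩ := Subgroup.ne_bot_iff_exists_ne_one.1 hS1
    refine Subtype.ext (eq_one_of_two_pow_commute hX (k := j) (s := s)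
      (by simpa using congrArg Subtype.val hj) (fun e => hs1 (Subtype.ext e)) ?_ ?_)
    · exact (hS ▸ ((Fact.out : p.Prime).odd_of_ne_two hp).pow : Odd (Nat.card S)).of_dvd_nat
        (Subgroup.orderOf_dvd_natCard S hs)
    · have e0 : f t ⟨s, hs⟩ = ⟨s, hs⟩ := by rw [ht]; rfl
      have e : (t : X) * s * (t : X)⁻¹ = s := congrArg Subtype.val e0
      exact (mul_inv_eq_iff_eq_mul.1 e).symm
  haveI hcyc : IsCyclic (MulAut S) := by
    haveI : IsCyclic (ZMod (Nat.card S))ˣ := by
      rw [hS]; exact ZMod.isCyclic_units_of_prime_pow p Fact.out hp k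
    exact (MulEquiv.isCyclic (IsCyclic.mulAutMulEquiv S)).2 inferInstance
  refine ⟨isCyclic_of_injective f hf, ?_⟩
  have h1 := Subgroup.card_dvd_of_injective f hf
  rwa [IsCyclic.card_mulAut, hS] at h1

variable (L : Subgroup X) [L.Normal]

theorem frattini {p : ℕ} [Fact p.Prime] (S : Sylow p L) :
    normalizer (((S : Subgroup L).map L.subtype : Subgroup X) : Set X) ⊔ L = ⊤ :=
  Sylow.normalizer_sup_eq_top S

theorem oddIndexFact : OddIndexFact.{u} := by
  intro X _ _ hX L hLn hLs hLna h3 S hcyc
  haveI := hLn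
  haveI := hLs
  haveI := hcyc
  haveI : Fact (Nat.Prime 2) := ⟨Nat.prime_two⟩
  haveI : Fact (Nat.Prime 3) := ⟨Nat.prime_three⟩
  set S' : Subgroup X := (S : Subgroup L).map L.subtype with hS'
  haveI hS'c : IsCyclic S' :=
    (MulEquiv.isCyclic ((S : Subgroup L).equivMapOfInjective _ L.subtype_injective)).1 hcyc
  obtain ⟨k, hk⟩ := S.isPGroup'.exists_card_eq
  have hS'k : Nat.card S' = 3 ^ k := by rw [hS', card_map_of_injective L.subtype_injective, hk]
  have hS'1 : S' ≠ ⊥ := by
    rw [Ne, hS', Subgroup.map_eq_bot_iff_of_injective _ L.subtype_injective]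
    exact S.ne_bot_of_dvd_card h3
  set N := normalizer (S' : Set X) with hN
  -- 2-subgroups of N have order at most two
  have htwo : ∀ T : Subgroup X, IsPGroup 2 T → T ≤ N → Nat.card T ∣ 2 := by
    intro T hT hTN
    have h1 := (two_subgroup_aut hX (by decide) hS'k hS'1 hT hTN).2
    rcases k with _ | k
    · exact absurd (Subgroup.card_eq_one.1 hS'k) hS'1
    rw [Nat.totient_prime_pow Nat.prime_three (Nat.succ_pos _)] at h1
    obtain ⟨j, hj⟩ := hT.exists_card_eq
    rw [hj] at h1 ⊢
    exact ((show Nat.Coprime 2 3 by decide).pow j _).dvd_of_dvd_mul_left h1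
  -- N ∩ L has even order
  have heven : 2 ∣ Nat.card (N ⊓ L : Subgroup X) := by
    by_contra hodd
    apply normalizer_not_le_centralizer hLna S h3
    let f := normalizerMonoidHom (S : Subgroup L)
    have h1 : Nat.card f.range ∣ (3 ^ k).totient := by
      have := Subgroup.card_subgroup_dvd_card f.range
      rwa [IsCyclic.card_mulAut, hk] at this
    have h2 : Nat.card f.range ∣ Nat.card ↥(normalizer ((S : Subgroup L) : Set L)) :=
      Subgroup.card_range_dvd f
    have hSN : (S : Subgroup L) ≤ normalizer ((S : Subgroup L) : Set L) := Subgroup.le_normalizer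
    -- the range has order prime to three
    have h3' : ¬ 3 ∣ Nat.card f.range := by
      intro hd
      have hle : (S : Subgroup L).subgroupOf (normalizer ((S : Subgroup L) : Set L)) ≤ f.ker := by
        intro x hx
        refine MulEquiv.ext fun s => Subtype.ext ?_
        show ((x : L) * (s : L) * (x : L)⁻¹) = s
        have := congrArg Subtype.val (mul_comm' (⟨(x : L), hx⟩ : (S : Subgroup L)) s)
        rw [show (x : L) * (s : L) = s * x from this, mul_inv_cancel_right]
      have h4 : Nat.card f.range ∣ ((S : Subgroup L).subgroupOf (normalizer ((S : Subgroup L) : Set L))).index := by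
        rw [← Subgroup.index_ker]
        exact Subgroup.index_dvd_of_le hle
      have h5 : ¬ 3 ∣ ((S : Subgroup L).subgroupOf (normalizer ((S : Subgroup L) : Set L))).index := fun h6 =>
        S.not_dvd_index (h6.trans (Dvd.intro _ (Subgroup.relIndex_mul_index hSN)))
      exact h5 (hd.trans h4)
    have h6 : ¬ 2 ∣ Nat.card f.range := fun hd => hodd (by
      refine (hd.trans h2).trans ?_
      rw [← card_map_of_injective (K := normalizer ((S : Subgroup L) : Set L)) L.subtype_injective]
      refine card_dvd_of_le (le_inf ?_ (map_subtype_le _))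
      exact Subgroup.le_normalizer_map _)
    have h7 : Nat.card f.range = 1 := by
      rcases k with _ | k
      · simpa using h1
      rw [Nat.totient_prime_pow Nat.prime_three (Nat.succ_pos _)] at h1
      have h8 := ((Nat.prime_three.coprime_iff_not_dvd.2 h3').symm.pow_right k).dvd_of_dvd_mul_left h1
      rcases (Nat.dvd_prime Nat.prime_two).1 h8 with e | e
      · exact e
      · exact absurd ⟨1, by rw [e]⟩ h6
    intro x hx
    refine mem_centralizer_iff.2 fun s hs => ?_
    have h9 : f ⟨x, hx⟩ = 1 := by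
      have : f ⟨x, hx⟩ ∈ f.range := ⟨_, rfl⟩
      rwa [Subgroup.card_eq_one.1 h7, mem_bot] at this
    have e0 : f ⟨x, hx⟩ ⟨s, hs⟩ = ⟨s, hs⟩ := by rw [h9]; rfl
    have e : x * s * x⁻¹ = s := congrArg Subtype.val e0
    exact (mul_inv_eq_iff_eq_mul.1 e).symm
  -- a Sylow 2-subgroup of N lies in L
  have hfr : N ⊔ L = ⊤ := frattini L S
  have hidx : L.index = L.relIndex N := by
    rw [← Subgroup.relIndex_top_right, ← hfr, Subgroup.relIndex_sup_right]
  rw [hidx]
  by_contra hev
  obtain ⟨T⟩ : Nonempty (Sylow 2 N) := inferInstance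
  have hT2 : Nat.card T ∣ 2 := by
    rw [← card_map_of_injective (K := (T : Subgroup N)) N.subtype_injective]
    exact htwo _ (T.isPGroup'.map _) (map_subtype_le _)
  have h10 : 2 * L.relIndex N ∣ Nat.card N := by
    rw [← inf_relIndex_right]
    have := Subgroup.card_mul_index ((L ⊓ N).subgroupOf N)
    rw [Nat.card_congr (subgroupOfEquivOfLe (inf_le_right : L ⊓ N ≤ N)).toEquiv] at this
    rw [inf_comm N L] at heven
    exact this ▸ Nat.mul_dvd_mul_right heven _
  have h4 : 2 ^ 2 ∣ Nat.card N := by
    rw [pow_two]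
    exact (Nat.mul_dvd_mul_left 2 (Nat.not_odd_iff_even.1 hev).two_dvd).trans h10
  have h11 := T.pow_dvd_card_of_pow_dvd_card h4
  have := Nat.le_of_dvd (by norm_num) (h11.trans hT2)
  omega

theorem elementaryFact : ElementaryFact.{u} := by
  intro X _ _ hX L hLn hLs hLna r hr hrodd hrL S hcyc E hE
  haveI := hLn
  haveI := hcyc
  haveI : Fact (Nat.Prime 2) := ⟨Nat.prime_two⟩
  haveI := Fact.mk hr
  have hr2 : r ≠ 2 := fun e => by rw [e] at hrodd; exact absurd hrodd (by decide)
  set S' : Subgroup X := (S : Subgroup L).map L.subtype with hS'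
  haveI hS'c : IsCyclic S' :=
    (MulEquiv.isCyclic ((S : Subgroup L).equivMapOfInjective _ L.subtype_injective)).1 hcyc
  obtain ⟨k, hk⟩ := S.isPGroup'.exists_card_eq
  have hS'k : Nat.card S' = r ^ k := by rw [hS', card_map_of_injective L.subtype_injective, hk]
  have hS'1 : S' ≠ ⊥ := by
    rw [Ne, hS', Subgroup.map_eq_bot_iff_of_injective _ L.subtype_injective]
    exact S.ne_bot_of_dvd_card hrL
  set N := normalizer (S' : Set X) with hN
  let q := QuotientGroup.mk' L
  set Eb := E.map q with hEb
  have hEb2 : ∀ y ∈ Eb, y * y = 1 := by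
    rintro _ ⟨x, hx, rfl⟩
    rw [← map_mul, hE x hx, map_one]
  -- a 2-subgroup of N covers the image of E
  set B := N ⊓ Eb.comap q with hB
  let g : B →* Eb := (q.comp B.subtype).codRestrict Eb fun x => (mem_inf.1 x.2).2
  have hg : Function.Surjective g := by
    rintro ⟨y, hy⟩
    obtain ⟨x, rfl⟩ := QuotientGroup.mk'_surjective L y
    have hx' : x ∈ N ⊔ L := (frattini L S).symm ▸ mem_top x
    rw [← SetLike.mem_coe, Subgroup.coe_mul_of_left_le_normalizer_right _ _
      (Subgroup.normalizer_eq_top (H := L) ▸ le_top)] at hx'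
    obtain ⟨n, hn, l, hl, rfl⟩ := hx'
    have e : q (n * l) = q n := by
      rw [map_mul, (QuotientGroup.eq_one_iff l).2 hl |> fun e => show q l = 1 from e, mul_one]
    exact ⟨⟨n, hn, show q n ∈ Eb from e ▸ hy⟩, Subtype.ext e.symm⟩
  obtain ⟨T⟩ : Nonempty (Sylow 2 B) := inferInstance
  let T' := T.mapSurjective hg
  have hT'top : (T' : Subgroup Eb) = ⊤ := by
    have hEbp : IsPGroup 2 Eb := fun y => ⟨1, Subtype.ext (by
      rw [pow_one, Subgroup.coe_pow, pow_two]; exact hEb2 y.1 y.2)⟩
    exact (T'.is_maximal' (hEbp.to_subgroup ⊤) le_top).symm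
  have hTcyc : IsCyclic T := by
    have h1 := (two_subgroup_aut hX hr2 hS'k hS'1 (T.isPGroup'.map B.subtype)
      ((map_subtype_le _).trans inf_le_left)).1
    exact (MulEquiv.isCyclic ((T : Subgroup B).equivMapOfInjective _ B.subtype_injective)).2 h1
  haveI hEbc : IsCyclic Eb := by
    have h1 : IsCyclic (T' : Subgroup Eb) :=
      isCyclic_of_surjective (g.subgroupMap (T : Subgroup B)) (MonoidHom.subgroupMap_surjective _ _)
    rw [hT'top] at h1
    exact (MulEquiv.isCyclic (Subgroup.topEquiv (G := Eb))).1 h1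
  have hEb_le : Nat.card Eb ≤ 2 := by
    obtain ⟨y, hy⟩ := IsCyclic.exists_generator (α := Eb)
    rw [← orderOf_eq_card_of_forall_mem_zpowers hy]
    exact Nat.le_of_dvd (by norm_num) (orderOf_dvd_of_pow_eq_one (Subtype.ext (by
      rw [Subgroup.coe_pow, pow_two]; exact hEb2 y.1 y.2)))
  let f : E →* Eb := q.subgroupMap E
  have h2 : Nat.card f.ker = Nat.card ↥(E ⊓ L) := by
    refine Nat.card_congr
      ⟨fun x => ⟨x.1.1, x.1.2, (QuotientGroup.eq_one_iff _).1 (congrArg Subtype.val x.2)⟩,
        fun y => ⟨⟨y.1, y.2.1⟩, Subtype.ext ((QuotientGroup.eq_one_iff _).2 y.2.2)⟩, ?_, ?_⟩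
    · intro x; rfl
    · intro y; rfl
  have h3 := Subgroup.index_mul_card f.ker
  rw [Subgroup.index_ker, MonoidHom.range_eq_top.2 (MonoidHom.subgroupMap_surjective _ _), h2,
    Nat.card_congr Subgroup.topEquiv.toEquiv] at h3
  rw [← h3]
  exact Nat.mul_le_mul_right _ hEb_le

end Cfsg.Agent.CIT.Offender
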