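import Cfsg.Agent.Lib.CIT.Offender.Dispatch
import Cfsg.Agent.Lib.CIT.Socle

/-!
# The offender lemma for CIT groups: the socle
-/

set_option autoImplicit false

namespace Cfsg.Agent.CIT.Offender

universe u

theorem socleFact : SocleFact.{u} := by
  intro X _ _ hX hcore ⟨a, b, ha, hb, hne, hab⟩
  have hO : Cfsg.pCore 2 X = ⊥ := eq_bot_iff.2 (sSup_le fun N hN => (hcore N hN.1 hN.2).le)
  obtain ⟨L, h1, h2, h3, h4, -, -⟩ := socle hX hO ha hb hne hab
  exact ⟨L, h1, h2, h3, h4⟩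

end Cfsg.Agent.CIT.Offender
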