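import Cfsg.Agent.Lib.CIT.Offender.Assemble
import Cfsg.Agent.Lib.CIT.Offender.SocleFact
import Cfsg.Agent.Lib.CIT.Offender.Outer

/-!
# The offender lemma for CIT groups (section 3 of `notes/cit-lead.md`)
-/

set_option autoImplicit false

namespace Cfsg.Agent.CIT

universe u

theorem offenderLemma : OffenderLemma.{u} :=
  Offender.offenderLemma_of Offender.socleFact Offender.oddIndexFact Offender.elementaryFact

end Cfsg.Agent.CIT
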