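import Cfsg.Agent.Lib.CIT.Offender.Dispatch
import Cfsg.Agent.Lib.CIT.ModelsOffender

/-!
# The offender lemma for CIT groups
-/

set_option autoImplicit false

namespace Cfsg.Agent.CIT.Offender

universe u

theorem modelFact : ModelFact.{u} := by
  intro L _ _ _ _ h
  rcases offender_data h with ⟨K, i1, i2, n, hn, hK, -, he⟩ | h'
  · exact Or.inl ⟨K, i1, i2, n, hn, hK, he⟩
  · exact Or.inr h'

theorem offenderLemma_of (hsoc : SocleFact.{u}) (hodd : OddIndexFact.{u}) (helem : ElementaryFact.{u}) :
    OffenderLemma.{u} := by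
  intro G _ _ hG hlist M R P h
  haveI := instNormal h
  exact offender_cases hsoc hodd helem modelFact hG hlist h

end Cfsg.Agent.CIT.Offender
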