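import Cfsg.Agent.Lib.CIT.OffenderDefs
import Cfsg.Agent.Lib.JComp.Basic
import Cfsg.Agent.Lib.Involutions.BaerSuzuki

/-!
# The offender lemma for CIT groups: the basic inequalities

With `W = Ω₁(Z(R))`: odd elements of `M` act fixed-point-freely on `W`, so every odd divisor of `|M|`
divides `|W| - 1`, and for an offender `A` we have `|W| * |A ∩ R|² ≤ |A|²`.
-/

set_option autoImplicit false
set_option linter.unusedSectionVars false

namespace Cfsg.Agent.CIT.Offender

open Subgroup Cfsg Cfsg.Agent.JComp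

universe u

variable {G : Type u} [Group G]

/-- `Ω₁(Z(R))`. -/
abbrev Wof (R : Subgroup G) : Subgroup G := Cfsg.omegaCenterOf R

theorem mem_W {R : Subgroup G} {x : G} :
    x ∈ Wof R ↔ x ∈ R ∧ (∀ r ∈ R, r * x = x * r) ∧ x * x = 1 := by
  constructor
  · intro hx
    induction hx using Subgroup.closure_induction with
    | mem y hy => exact ⟨hy.1.1, fun r hr => mem_centralizer_iff.1 hy.1.2 r hr, by rw [← pow_two]; exact hy.2⟩
    | one => exact ⟨one_mem R, fun r _ => by rw [mul_one, one_mul], one_mul 1⟩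
    | mul a b _ _ ha hb =>
      refine ⟨mul_mem ha.1 hb.1, fun r hr => ?_, ?_⟩
      · rw [← mul_assoc, ha.2.1 r hr, mul_assoc, hb.2.1 r hr, mul_assoc]
      · calc a * b * (a * b) = a * (b * a) * b := by group
          _ = a * (a * b) * b := by rw [ha.2.1 b hb.1]
          _ = a * a * (b * b) := by group
          _ = 1 := by rw [ha.2.2, hb.2.2, one_mul]
    | inv a _ ha =>
      refine ⟨inv_mem ha.1, fun r hr => ?_, ?_⟩
      · exact ((show Commute r a from ha.2.1 r hr).inv_right).eq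
      · rw [← mul_inv_rev, ha.2.2, inv_one]
  · rintro ⟨h1, h2, h3⟩
    exact subset_closure ⟨⟨h1, mem_centralizer_iff.2 h2⟩, by rw [pow_two]; exact h3⟩

theorem W_le (R : Subgroup G) : Wof R ≤ R := fun _ hx => (mem_W.1 hx).1

theorem W_sq {R : Subgroup G} {x : G} (hx : x ∈ Wof R) : x * x = 1 := (mem_W.1 hx).2.2

theorem W_cent {R : Subgroup G} {x r : G} (hx : x ∈ Wof R) (hr : r ∈ R) : r * x = x * r :=
  (mem_W.1 hx).2.1 r hr

theorem exists_involution_pow {r : G} (hr : ∃ k, orderOf r = 2 ^ k) (hr1 : r ≠ 1) :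
    ∃ i : ℕ, r ^ i * r ^ i = 1 ∧ r ^ i ≠ 1 := by
  obtain ⟨k, hk⟩ := hr
  rcases k with _ | k
  · exact absurd (orderOf_eq_one_iff.1 (by simpa using hk)) hr1
  · refine ⟨2 ^ k, ?_, fun h => ?_⟩
    · rw [← pow_add, ← two_mul, ← pow_succ', ← hk, pow_orderOf_eq_one]
    · have hd := orderOf_dvd_of_pow_eq_one h
      rw [hk] at hd
      have := Nat.le_of_dvd (by positivity) hd
      rw [pow_succ] at this
      have : 0 < 2 ^ k := by positivity
      omega

variable [Finite G]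

theorem comm_of_sq {A : Subgroup G} (h : ∀ x ∈ A, x * x = 1) {a b : G} (ha : a ∈ A) (hb : b ∈ A) :
    a * b = b * a :=
  isElementaryAbelian_two_comm (isElementaryAbelian_two_of h) ha hb

theorem orderOf_pgroup {H : Subgroup G} (hH : IsPGroup 2 H) {r : G} (hr : r ∈ H) :
    ∃ k, orderOf r = 2 ^ k := by
  obtain ⟨k, hk⟩ := IsPGroup.iff_orderOf.1 hH ⟨r, hr⟩
  exact ⟨k, by rw [← hk, Subgroup.orderOf_mk]⟩

theorem eq_one_of_commute (hG : IsCIT G) {t y : G} (ht : t * t = 1) (ht1 : t ≠ 1)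
    (hy : Odd (orderOf y)) (hc : y * t = t * y) : y = 1 := by
  have hto : orderOf t = 2 := orderOf_eq_prime (by rw [pow_two]; exact ht) ht1
  obtain ⟨k, hk⟩ := orderOf_pgroup (hG t hto) (mem_centralizer_singleton_iff.2 hc)
  rcases k with _ | k
  · exact orderOf_eq_one_iff.1 (by simpa using hk)
  · rw [hk, pow_succ'] at hy
    exact absurd hy (Nat.not_odd_iff_even.2 (even_two_mul _))

/-- An element of even or odd order centralizing an involution is a 2-element. -/
theorem pow_two_eq_one_of_commute (hG : IsCIT G) {t x : G} (ht : t * t = 1) (ht1 : t ≠ 1)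
    (hc : x * t = t * x) : ∃ k : ℕ, x ^ (2 ^ k) = 1 := by
  have hto : orderOf t = 2 := orderOf_eq_prime (by rw [pow_two]; exact ht) ht1
  obtain ⟨k, hk⟩ := orderOf_pgroup (hG t hto) (mem_centralizer_singleton_iff.2 hc)
  exact ⟨k, by rw [← hk, pow_orderOf_eq_one]⟩

variable {M R P : Subgroup G}

theorem eq_one_of_fixed (hG : IsCIT G) (h : OffenderHyp M R P) {r y : G} (hr : r ∈ R) (hr1 : r ≠ 1)
    (hy : Odd (orderOf y)) (hc : y * r = r * y) : y = 1 := by
  obtain ⟨i, hi, hi1⟩ := exists_involution_pow (orderOf_pgroup h.R_pgroup hr) hr1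
  exact eq_one_of_commute hG hi hi1 hy ((show Commute y r from hc).pow_right i).eq

theorem R_ne_bot (h : OffenderHyp M R P) : R ≠ ⊥ := by
  intro hR
  apply h.offender
  have hM : M ≤ R := by
    intro x hx
    refine h.cent ⟨?_, hx⟩
    rw [hR]
    exact mem_centralizer_iff.2 fun g hg => by
      rw [SetLike.mem_coe, mem_bot] at hg; rw [hg, one_mul, mul_one]
  exact (J_le P).trans (h.P_le.trans hM)

theorem W_ne_bot (h : OffenderHyp M R P) : Wof R ≠ ⊥ := by
  have : Fact (Nat.Prime 2) := ⟨Nat.prime_two⟩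
  haveI : Nontrivial R := (nontrivial_iff_ne_bot R).2 (R_ne_bot h)
  haveI := h.R_pgroup.center_nontrivial
  obtain ⟨⟨⟨c, hcR⟩, hc⟩, hc1⟩ := exists_ne (1 : Subgroup.center R)
  have hc1' : c ≠ 1 := fun e => hc1 (Subtype.ext (Subtype.ext e))
  obtain ⟨i, hi, hi1⟩ := exists_involution_pow (orderOf_pgroup h.R_pgroup hcR) hc1'
  intro hW
  apply hi1
  have hm : c ^ i ∈ Wof R := mem_W.2 ⟨pow_mem hcR i, fun r hr => by
    have hrc : r * c = c * r := congrArg Subtype.val (Subgroup.mem_center_iff.1 hc ⟨r, hr⟩)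
    exact ((show Commute r c from hrc).pow_right i).eq, hi⟩
  rwa [hW, mem_bot] at hm

theorem conj_mem_R (h : OffenderHyp M R P) {g r : G} (hg : g ∈ M) (hr : r ∈ R) : g * r * g⁻¹ ∈ R :=
  conj_mem_normalizer (h.R_normal hg) hr

theorem conj_mem_W (h : OffenderHyp M R P) {g x : G} (hg : g ∈ M) (hx : x ∈ Wof R) :
    g * x * g⁻¹ ∈ Wof R := by
  refine mem_W.2 ⟨conj_mem_R h hg (W_le R hx), fun r hr => ?_, ?_⟩
  · have h1 : g⁻¹ * r * g ∈ R := by simpa using conj_mem_R h (inv_mem hg) hr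
    calc r * (g * x * g⁻¹) = g * ((g⁻¹ * r * g) * x) * g⁻¹ := by group
      _ = g * (x * (g⁻¹ * r * g)) * g⁻¹ := by rw [W_cent hx h1]
      _ = (g * x * g⁻¹) * r := by group
  · calc g * x * g⁻¹ * (g * x * g⁻¹) = g * (x * x) * g⁻¹ := by group
      _ = 1 := by rw [W_sq hx]; group

theorem W_normal (h : OffenderHyp M R P) : M ≤ normalizer (Wof R : Set G) := fun g hg =>
  mem_normalizer_of_cjg_le fun y hy => by
    obtain ⟨x, hx, rfl⟩ := hy
    exact conj_mem_W h hg hx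

theorem cent_W (hG : IsCIT G) (h : OffenderHyp M R P) :
    centralizer (Wof R : Set G) ⊓ M = R := by
  refine le_antisymm (h.R_max _ inf_le_right ?_ ?_)
    (le_inf (fun r hr => mem_centralizer_iff.2 fun w hw => (W_cent hw hr).symm) h.R_le)
  · exact (le_inf ((W_normal h).trans (normalizer_le_normalizer_centralizer' _))
      Subgroup.le_normalizer).trans (normalizer_inf_le_normalizer_inf _ _)
  · obtain ⟨w, hw, hw1⟩ : ∃ w ∈ Wof R, w ≠ 1 := (Subgroup.ne_bot_iff_exists_ne_one.1 (W_ne_bot h)).elim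
      fun w hw => ⟨w.1, w.2, fun e => hw (Subtype.ext e)⟩
    intro x
    obtain ⟨k, hk⟩ := pow_two_eq_one_of_commute hG (W_sq hw) hw1
      (mem_centralizer_iff.1 x.2.1 w hw).symm
    exact ⟨k, Subtype.ext (by simpa using hk)⟩

theorem R_le_P (h : OffenderHyp M R P) : R ≤ P := by
  have : Fact (Nat.Prime 2) := ⟨Nat.prime_two⟩
  have hPn : P ≤ normalizer (R : Set G) := h.P_le.trans h.R_normal
  have hp : IsPGroup 2 ↥(P ⊔ R) := IsPGroup.to_sup_of_normal_right' h.P_pgroup h.R_pgroup hPn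
  have hd : P.relIndex (P ⊔ R) ∣ P.relIndex M := by
    rw [← relIndex_mul_relIndex P (P ⊔ R) M le_sup_left (sup_le h.P_le h.R_le)]
    exact dvd_mul_right _ _
  obtain ⟨n, hn⟩ := hp.exists_card_eq
  have hd2 : P.relIndex (P ⊔ R) ∣ 2 ^ n := hn ▸ relIndex_dvd_card P (P ⊔ R)
  obtain ⟨j, -, hj⟩ := (Nat.dvd_prime_pow Nat.prime_two).1 hd2
  have hodd : Odd (P.relIndex (P ⊔ R)) := h.P_odd.of_dvd_nat hd
  have h1 : P.relIndex (P ⊔ R) = 1 := by
    rcases j with _ | j
    · simpa using hj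
    · rw [hj, pow_succ'] at hodd
      exact absurd hodd (Nat.not_odd_iff_even.2 (even_two_mul _))
  exact le_sup_right.trans (relIndex_eq_one.1 h1)

/-- An involution of `M` outside `R` centralizes at most a square root of `W`. -/
theorem card_cent_sq_le (hG : IsCIT G) (h : OffenderHyp M R P) {a : G} (ha : a ∈ M) (ha2 : a * a = 1)
    (haR : a ∉ R) :
    Nat.card ↥(Wof R ⊓ centralizer ({a} : Set G)) ^ 2 ≤ Nat.card ↥(Wof R) := by
  have : Fact (Nat.Prime 2) := ⟨Nat.prime_two⟩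
  haveI : (R.subgroupOf M).Normal := normal_subgroupOf_of_le_normalizer h.R_normal
  let π := QuotientGroup.mk' (R.subgroupOf M)
  have hker : ∀ x : M, π x = 1 ↔ (x : G) ∈ R := fun x => QuotientGroup.eq_one_iff x
  have hπa : orderOf (π ⟨a, ha⟩) = 2 := by
    refine orderOf_eq_prime ?_ fun e => haR ((hker _).1 e)
    rw [← map_pow, pow_two, show (⟨a, ha⟩ : M) * ⟨a, ha⟩ = 1 from Subtype.ext ha2, map_one]
  obtain ⟨y, hy1, hyo, hy⟩ := Involutions.BaerSuzuki.exists_inverted_odd (π ⟨a, ha⟩) hπa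
    fun N hN hN2 haN => haR (by
      have hQ : (N.comap π).map M.subtype ≤ R := by
        refine h.R_max _ (map_subtype_le _) ?_ ?_
        · intro g hg
          refine mem_normalizer_of_cjg_le fun y hy => ?_
          obtain ⟨x, ⟨z, hz, rfl⟩, rfl⟩ := hy
          exact ⟨⟨g, hg⟩ * z * (⟨g, hg⟩ : M)⁻¹, (hN.comap π).conj_mem z hz ⟨g, hg⟩, rfl⟩
        · refine IsPGroup.map (hN2.comap_of_ker_isPGroup π ?_) _
          rw [QuotientGroup.ker_mk']
          exact h.R_pgroup.comap_of_injective M.subtype M.subtype_injective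
      exact hQ ⟨⟨a, ha⟩, haN, rfl⟩)
  obtain ⟨⟨z, hz⟩, rfl⟩ := QuotientGroup.mk'_surjective (R.subgroupOf M) y
  obtain ⟨r, hr, hazr⟩ : ∃ r ∈ R, a * z * a⁻¹ = z⁻¹ * r := by
    refine ⟨z * (a * z * a⁻¹), ?_, by group⟩
    have : π (⟨z, hz⟩ * (⟨a, ha⟩ * ⟨z, hz⟩ * (⟨a, ha⟩ : M)⁻¹)) = 1 := by
      rw [map_mul, map_mul, map_mul, map_inv]
      exact (congrArg _ hy).trans (mul_inv_cancel _)
    exact (hker _).1 this
  set C := Wof R ⊓ centralizer ({a} : Set G) with hC
  have hcomm : ∀ c ∈ C, a * c * a⁻¹ = c := fun c hc => by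
    rw [← mem_centralizer_singleton_iff.1 hc.2]; group
  have hbot : C ⊓ cjg z C = ⊥ := by
    rw [eq_bot_iff]
    intro w hww
    obtain ⟨hw, hw'⟩ := mem_inf.1 hww
    rw [mem_cjg] at hw'
    rw [mem_bot]
    by_contra hw1
    have hv : z⁻¹ * w * z ∈ Wof R := hw'.1
    have h1 : z * w * z⁻¹ = z⁻¹ * w * z := by
      have e := hcomm _ hw'
      have e2 : a * (z⁻¹ * w * z) * a⁻¹ = (r⁻¹ * z) * w * (z⁻¹ * r) := by
        calc a * (z⁻¹ * w * z) * a⁻¹ = (a * z * a⁻¹)⁻¹ * (a * w * a⁻¹) * (a * z * a⁻¹) := by group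
          _ = _ := by rw [hcomm w hw, hazr]; group
      rw [e2] at e
      calc z * w * z⁻¹ = r * ((r⁻¹ * z) * w * (z⁻¹ * r)) * r⁻¹ := by group
        _ = r * (z⁻¹ * w * z) * r⁻¹ := by rw [e]
        _ = z⁻¹ * w * z := by rw [W_cent hv hr]; group
    have h2 : z * z * w = w * (z * z) := by
      calc z * z * w = z * (z * w * z⁻¹) * z := by group
        _ = z * (z⁻¹ * w * z) * z := by rw [h1]
        _ = w * (z * z) := by group
    obtain ⟨k, hk⟩ := pow_two_eq_one_of_commute hG (W_sq hw.1) hw1 h2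
    apply hy1
    have h3 : π (⟨z, hz⟩ : M) ^ (2 * 2 ^ k) = 1 := by
      rw [← map_pow]
      refine (hker _).2 ?_
      rw [Subgroup.coe_pow, pow_mul, pow_two, hk]
      exact one_mem R
    have h4 := orderOf_dvd_of_pow_eq_one h3
    rw [← orderOf_eq_one_iff]
    exact Nat.eq_one_of_dvd_coprimes (Nat.Coprime.mul_left (Nat.coprime_two_left.2 hyo)
      ((Nat.coprime_two_left.2 hyo).pow_left k)) h4 dvd_rfl
  have hle : C ⊔ cjg z C ≤ Wof R := sup_le inf_le_left fun y hy => by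
    obtain ⟨c, hc, rfl⟩ := hy
    exact conj_mem_W h hz hc.1
  have hnorm : cjg z C ≤ normalizer (C : Set G) := le_normalizer_of_commute fun c hc d hd =>
    comm_of_sq (fun x hx => W_sq hx) hc.1 (hle (le_sup_right (a := C) hd))
  have hcard := card_sup_mul_inf hnorm
  rw [hbot, card_bot, mul_one, card_cjg] at hcard
  rw [pow_two, ← hcard]
  exact card_le_of_le hle

theorem exists_offender (h : OffenderHyp M R P) : ∃ A, MaxEA P A ∧ ¬ A ≤ R := by
  by_contra hc
  push Not at hc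
  exact h.offender (J_le_of_forall fun A hA => hc A hA)

theorem card_W_mul_le (h : OffenderHyp M R P) {A : Subgroup G} (hA : MaxEA P A) :
    Nat.card ↥(Wof R) * Nat.card ↥(A ⊓ R) ≤
      Nat.card A * Nat.card ↥(Wof R ⊓ centralizer (A : Set G)) := by
  have hsq : ∀ x ∈ A, x * x = 1 := fun x hx => isElementaryAbelian_two_sq hA.2.1 hx
  have hc : ∀ e ∈ A ⊓ R, ∀ w ∈ Wof R, e * w = w * e := fun e he w hw => W_cent hw he.2
  have hsup : IsElementaryAbelian 2 (A ⊓ R ⊔ Wof R) :=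
    PLocal.ThompsonSubgroup.IsElementaryAbelian.sup
      (isElementaryAbelian_two_of fun x hx => hsq x hx.1)
      (isElementaryAbelian_two_of fun x hx => W_sq hx)
      (fun e he => mem_centralizer_iff.2 fun w hw => (hc e he w hw).symm)
  have h1 := hA.2.2 _ (sup_le (inf_le_left.trans hA.1) ((W_le R).trans (R_le_P h))) hsup
  have h2 := card_sup_mul_inf (le_normalizer_of_commute hc)
  rw [mul_comm (Nat.card ↥(A ⊓ R)) _] at h2
  rw [← h2]
  refine Nat.mul_le_mul h1 (card_le_of_le fun x hx => ⟨hx.2, mem_centralizer_iff.2 fun y hy => ?_⟩)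
  exact comm_of_sq hsq hy hx.1.1

theorem card_bound (hG : IsCIT G) (h : OffenderHyp M R P) {A : Subgroup G} (hA : MaxEA P A)
    (hAR : ¬ A ≤ R) :
    Nat.card ↥(Wof R) * Nat.card ↥(A ⊓ R) ^ 2 ≤ Nat.card A ^ 2 := by
  obtain ⟨a, haA, haR⟩ := SetLike.not_le_iff_exists.1 hAR
  have h1 := card_W_mul_le h hA
  have h2 := card_cent_sq_le hG h (h.P_le (hA.1 haA)) (isElementaryAbelian_two_sq hA.2.1 haA) haR
  have h3 : Nat.card ↥(Wof R ⊓ centralizer (A : Set G)) ≤
      Nat.card ↥(Wof R ⊓ centralizer ({a} : Set G)) :=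
    card_le_of_le (inf_le_inf_left _ (centralizer_le (Set.singleton_subset_iff.2 haA)))
  have hpos : 0 < Nat.card ↥(Wof R) := Nat.card_pos
  refine Nat.le_of_mul_le_mul_left ?_ hpos
  calc Nat.card ↥(Wof R) * (Nat.card ↥(Wof R) * Nat.card ↥(A ⊓ R) ^ 2)
      = (Nat.card ↥(Wof R) * Nat.card ↥(A ⊓ R)) ^ 2 := by ring
    _ ≤ (Nat.card A * Nat.card ↥(Wof R ⊓ centralizer (A : Set G))) ^ 2 := Nat.pow_le_pow_left h1 2
    _ ≤ (Nat.card A * Nat.card ↥(Wof R ⊓ centralizer ({a} : Set G))) ^ 2 :=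
        Nat.pow_le_pow_left (Nat.mul_le_mul_left _ h3) 2
    _ = Nat.card A ^ 2 * Nat.card ↥(Wof R ⊓ centralizer ({a} : Set G)) ^ 2 := mul_pow _ _ _
    _ ≤ Nat.card A ^ 2 * Nat.card ↥(Wof R) := Nat.mul_le_mul_left _ h2
    _ = _ := mul_comm _ _

theorem card_dvd_of_free {Q α : Type*} [Group Q] [MulAction Q α]
    (hfree : ∀ (q : Q) (x : α), q • x = x → q = 1) : Nat.card Q ∣ Nat.card α := by
  have e : α ≃ (MulAction.orbitRel.Quotient Q α) × Q :=
    (MulAction.selfEquivSigmaOrbitsQuotientStabilizer Q α).trans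
      ((Equiv.sigmaCongrRight fun ω => by
        have hb : MulAction.stabilizer Q ω.out = ⊥ :=
          (Subgroup.eq_bot_iff_forall _).2 fun q hq => hfree q _ hq
        exact (Subgroup.quotientEquivOfEq hb).trans (QuotientGroup.quotientBot (G := Q)).toEquiv).trans
        (Equiv.sigmaEquivProd _ _))
  exact ⟨Nat.card (MulAction.orbitRel.Quotient Q α), by rw [Nat.card_congr e, Nat.card_prod, mul_comm]⟩

theorem card_odd_dvd (hG : IsCIT G) (h : OffenderHyp M R P) {Q : Subgroup G} (hQ : Q ≤ M)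
    (hodd : Odd (Nat.card Q)) : Nat.card Q ∣ Nat.card ↥(Wof R) - 1 := by
  let act : MulAction Q {w : Wof R // w ≠ 1} :=
    { smul := fun q w => ⟨⟨q * (w.1 : G) * (q : G)⁻¹, conj_mem_W h (hQ q.2) w.1.2⟩, fun e => w.2 (by
          have e' : (q : G) * (w.1 : G) * (q : G)⁻¹ = 1 := congrArg Subtype.val e
          exact Subtype.ext (conj_eq_one_iff.1 e'))⟩
      one_smul := fun w => Subtype.ext (Subtype.ext (show (1 : G) * (w.1 : G) * (1 : G)⁻¹ = _ by group))
      mul_smul := fun q q' w => Subtype.ext (Subtype.ext (show ((q : G) * q') * (w.1 : G) * ((q : G) * q')⁻¹ =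
        (q : G) * ((q' : G) * (w.1 : G) * (q' : G)⁻¹) * (q : G)⁻¹ by group)) }
  have hcard : Nat.card {w : Wof R // w ≠ 1} = Nat.card ↥(Wof R) - 1 := by
    classical
    haveI := Fintype.ofFinite (Wof R)
    rw [Nat.card_eq_fintype_card, Nat.card_eq_fintype_card, Fintype.card_subtype_compl, Fintype.card_subtype_eq]
  rw [← hcard]
  refine card_dvd_of_free (fun q w e => ?_)
  have e' : (q : G) * (w.1 : G) * (q : G)⁻¹ = w.1 := congrArg (fun v => (v.1 : G)) e
  apply Subtype.ext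
  refine eq_one_of_fixed hG h (W_le R w.1.2) (fun h1 => w.2 (Subtype.ext h1)) ?_
    (mul_inv_eq_iff_eq_mul.1 e')
  exact hodd.of_dvd_nat (Subgroup.orderOf_dvd_natCard Q q.2)

theorem odd_dvd_card_W (hG : IsCIT G) (h : OffenderHyp M R P) {r : ℕ} (hr : Odd r)
    (hrM : r ∣ Nat.card M) : r ∣ Nat.card ↥(Wof R) - 1 := by
  rw [Nat.dvd_iff_prime_pow_dvd_dvd]
  intro p k hp hpk
  rcases k with _ | k
  · simp
  haveI := Fact.mk hp
  have hpo : Odd (p ^ (k + 1)) := hr.of_dvd_nat hpk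
  obtain ⟨Q, hQ⟩ := Sylow.exists_subgroup_card_pow_prime (G := M) p (hpk.trans hrM)
  have hc : Nat.card ↥(Q.map M.subtype) = p ^ (k + 1) := by
    rw [card_map_of_injective M.subtype_injective, hQ]
  have := card_odd_dvd hG h (map_subtype_le Q) (hc ▸ hpo)
  rwa [hc] at this

end Cfsg.Agent.CIT.Offender
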