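import Cfsg.Agent.Lib.CIT.Offender.Natural
import Cfsg.Agent.OddLocal.CNSolvable

/-!
# The offender lemma for CIT groups: the case distinction

The facts on socles and on the groups of the list enter as hypotheses here; they are discharged in
`Lib/CIT/Offender.lean`.
-/

set_option autoImplicit false
set_option linter.unusedSectionVars false

namespace Cfsg.Agent.CIT.Offender

open Subgroup Cfsg Cfsg.Agent.JComp
open scoped MatrixGroups

universe u

/-- Existence of a simple socle. -/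
def SocleFact : Prop :=
  ∀ (X : Type u) [Group X] [Finite X], IsCIT X →
    (∀ N : Subgroup X, N.Normal → IsPGroup 2 N → N = ⊥) →
    (∃ a b : X, orderOf a = 2 ∧ orderOf b = 2 ∧ a ≠ b ∧ a * b = b * a) →
    ∃ L : Subgroup X, L.Normal ∧ IsSimpleGroup L ∧ ¬ IsMulCommutative L ∧ IsCIT L

/-- No outer part of even order over a socle with cyclic Sylow 3-subgroups. -/
def OddIndexFact : Prop :=
  ∀ (X : Type u) [Group X] [Finite X], IsCIT X → ∀ (L : Subgroup X), L.Normal → IsSimpleGroup L →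
    ¬ IsMulCommutative L → 3 ∣ Nat.card L → ∀ P : Sylow 3 L, IsCyclic P → Odd L.index

/-- The outer part of an elementary abelian 2-subgroup has order at most two. -/
def ElementaryFact : Prop :=
  ∀ (X : Type u) [Group X] [Finite X], IsCIT X → ∀ (L : Subgroup X), L.Normal → IsSimpleGroup L →
    ¬ IsMulCommutative L → ∀ r : ℕ, r.Prime → Odd r → r ∣ Nat.card L → ∀ S : Sylow r L, IsCyclic S →
      ∀ E : Subgroup X, (∀ x ∈ E, x * x = 1) → Nat.card E ≤ 2 * Nat.card (E ⊓ L : Subgroup X)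

/-- What is needed about the members of the list. -/
def ModelFact : Prop :=
  ∀ (L : Type u) [Group L] [Finite L] [IsSimpleGroup L], ¬ IsMulCommutative L → CITList L →
    (∃ (K : Type) (_ : Field K) (_ : Fintype K) (n : ℕ), 2 ≤ n ∧ Fintype.card K = 2 ^ n ∧
      Nonempty (L ≃* Matrix.SpecialLinearGroup (Fin 2) K)) ∨
    ∃ e : ℕ, (∀ E : Subgroup L, (∀ x ∈ E, x * x = 1) → Nat.card E ≤ 2 ^ e) ∧
      ∀ d : ℕ, 1 ≤ d → d ≤ 2 * (e + (if 3 ∣ Nat.card L then 0 else 1)) →
        ∃ r, Odd r ∧ r ∣ Nat.card L ∧ ¬ r ∣ 2 ^ d - 1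

variable {G : Type u} [Group G] [Finite G] {M R P : Subgroup G} [(R.subgroupOf M).Normal]

/-- Odd `p`-subgroups of `M/R` are cyclic. -/
theorem isCyclic_of_pgroup (hG : IsCIT G) (h : OffenderHyp M R P) {p : ℕ} [Fact p.Prime] (hp : p ≠ 2)
    {S : Subgroup (↥M ⧸ R.subgroupOf M)} (hS : IsPGroup p S) : IsCyclic S := by
  obtain ⟨Q₀⟩ : Nonempty (Sylow p M) := inferInstance
  have hQG : IsPGroup p ↥((Q₀ : Subgroup M).map M.subtype) := Q₀.isPGroup'.map _
  have hodd : Odd (Nat.card ↥((Q₀ : Subgroup M).map M.subtype)) := by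
    obtain ⟨k, hk⟩ := hQG.exists_card_eq
    rw [hk]
    exact ((Fact.out : p.Prime).odd_of_ne_two hp).pow
  have hcyc : IsCyclic ↥((Q₀ : Subgroup M).map M.subtype) :=
    OddLocal.CN.isCyclic_of_fpf_odd hQG.isNilpotent hodd
      ((map_subtype_le _).trans (W_normal h)) (fun a ha ha1 => by
        rw [eq_bot_iff]
        intro w hw
        rw [mem_bot]
        by_contra hw1
        exact ha1 (eq_one_of_fixed hG h (W_le R hw.1) hw1
          (hodd.of_dvd_nat (Subgroup.orderOf_dvd_natCard _ ha))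
          (mem_centralizer_singleton_iff.1 hw.2).symm))
      (W_ne_bot h)
  have hcyc0 : IsCyclic (Q₀ : Subgroup M) :=
    (MulEquiv.isCyclic ((Q₀ : Subgroup M).equivMapOfInjective _ M.subtype_injective)).2 hcyc
  obtain ⟨T, hT⟩ := hS.exists_le_sylow
  let S₀ := Q₀.mapSurjective (QuotientGroup.mk'_surjective (R.subgroupOf M))
  have hS₀ : IsCyclic ↥((Q₀ : Subgroup M).map (QuotientGroup.mk' (R.subgroupOf M))) :=
    isCyclic_of_surjective ((QuotientGroup.mk' (R.subgroupOf M)).subgroupMap (Q₀ : Subgroup M))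
      (MonoidHom.subgroupMap_surjective _ _)
  have hT' : IsCyclic T := (MulEquiv.isCyclic (Sylow.equiv T S₀)).2 hS₀
  exact isCyclic_of_injective (Subgroup.inclusion hT) (Subgroup.inclusion_injective hT)

theorem isPGroup_img {A : Subgroup G} (hA : ∀ x ∈ A, x * x = 1) : IsPGroup 2 (img (M := M) R A) :=
  fun x => ⟨1, Subtype.ext (by rw [pow_one, Subgroup.coe_pow, pow_two]; exact img_sq hA x.1 x.2)⟩

theorem offender_cases (hsoc : SocleFact.{u}) (hodd : OddIndexFact.{u}) (helem : ElementaryFact.{u})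
    (hmod : ModelFact.{u}) (hG : IsCIT G) (hlist : ListBelow.{u} (Nat.card G))
    (h : OffenderHyp M R P) : ThreeOffender M R P ∨ ∃ (n : ℕ) (A : Subgroup G), NaturalOffender M R P A n := by
  have : Fact (Nat.Prime 2) := ⟨Nat.prime_two⟩
  obtain ⟨A, hA, hAR⟩ := exists_offender h
  have hAsq : ∀ x ∈ A, x * x = 1 := fun x hx => isElementaryAbelian_two_sq hA.2.1 hx
  have hAM : A ≤ M := hA.1.trans h.P_le
  have hcardA := card_img (M := M) (R := R) hAM
  obtain ⟨i, hi⟩ := (isPGroup_img (M := M) (R := R) hAsq).exists_card_eq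
  rcases Nat.lt_or_ge i 2 with hi2 | hi2
  · left
    interval_cases i
    · exfalso
      rw [hi, pow_zero, one_mul] at hcardA
      exact hAR ((eq_of_le_of_card_ge inf_le_left hcardA.ge).symm.le.trans inf_le_right)
    · refine three_offender hG h hA hAR ?_
      rw [← hcardA, hi, pow_one]
  right
  set X := ↥M ⧸ R.subgroupOf M with hX
  set I := img (M := M) R A with hI
  have hIsq : ∀ x ∈ I, x * x = 1 := img_sq hAsq
  have hfour : ∃ a b : X, orderOf a = 2 ∧ orderOf b = 2 ∧ a ≠ b ∧ a * b = b * a := by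
    have h4 : 2 ^ 2 ≤ Nat.card I := hi ▸ Nat.pow_le_pow_right (by norm_num) hi2
    have hne : I ≠ ⊥ := fun e => by rw [e, card_bot] at h4; omega
    obtain ⟨⟨a, ha⟩, ha1⟩ := Subgroup.ne_bot_iff_exists_ne_one.1 hne
    have hord : ∀ x ∈ I, x ≠ 1 → orderOf x = 2 := fun x hx hx1 =>
      orderOf_eq_prime (by rw [pow_two]; exact hIsq x hx) hx1
    have ha1' : a ≠ 1 := fun e => ha1 (Subtype.ext e)
    obtain ⟨b, hb, hba⟩ : ∃ b ∈ I, b ∉ zpowers a := by
      by_contra hc
      push Not at hc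
      have h5 := card_le_of_le (fun x hx => hc x hx : I ≤ zpowers a)
      rw [Nat.card_zpowers, hord a ha ha1'] at h5
      omega
    exact ⟨a, b, hord a ha ha1', hord b hb (fun e => hba (e ▸ one_mem _)),
      fun e => hba (e ▸ mem_zpowers a), comm_of_sq hIsq ha hb⟩
  have hXM := card_quotient h
  obtain ⟨L, hLn, hLs, hLna, hLcit⟩ :=
    hsoc X (quotient_isCIT hG h) (fun N hN hN2 => quotient_core h N hN hN2) hfour
  haveI := hLn
  haveI := hLs
  have hLX : Nat.card L ≤ Nat.card X := Subgroup.card_le_card_group L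
  have hLM : Nat.card L ∣ Nat.card M := (card_subgroup_dvd_card L).trans ⟨_, hXM.symm⟩
  have hlt : Nat.card L < Nat.card G := by
    have hR1 : 1 < Nat.card R := (Subgroup.one_lt_card_iff_ne_bot R).2 (R_ne_bot h)
    have hXpos : 0 < Nat.card X := Nat.card_pos
    calc Nat.card L ≤ Nat.card X := hLX
      _ < Nat.card X * Nat.card R := lt_mul_of_one_lt_right hXpos hR1
      _ = Nat.card M := hXM
      _ ≤ Nat.card G := Subgroup.card_le_card_group M
  have hCL : CITList L := hlist L hlt hLna hLcit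
  have hcyc : ∀ {p : ℕ} [Fact p.Prime], p ≠ 2 → ∀ S : Sylow p L, IsCyclic S := by
    intro p _ hp S
    exact (MulEquiv.isCyclic ((S : Subgroup L).equivMapOfInjective _ L.subtype_injective)).2
      (isCyclic_of_pgroup hG h hp (S.isPGroup'.map L.subtype))
  have hodd3 : 3 ∣ Nat.card L → Odd L.index := fun h3 => by
    haveI : Fact (Nat.Prime 3) := ⟨Nat.prime_three⟩
    obtain ⟨S⟩ : Nonempty (Sylow 3 L) := inferInstance
    exact hodd X (quotient_isCIT hG h) L hLn hLs hLna h3 S (hcyc (by decide) S)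
  rcases hmod L hLna hCL with ⟨K, hKF, hKfin, n, hn, hK, ⟨e⟩⟩ | ⟨e, he, hd⟩
  · refine ⟨n, A, natural_offender hG h hA hAR L (hodd3 ?_) hn hK e⟩
    rw [Nat.card_congr e.toEquiv, Classical.GL2.natCard_SL_two, hK]
    exact (three_dvd_sq_sub_one n).mul_left _
  · exfalso
    have hIL : Nat.card I ≤ 2 ^ (e + (if 3 ∣ Nat.card L then 0 else 1)) := by
      have hinf : Nat.card ↥(I ⊓ L : Subgroup X) ≤ 2 ^ e := by
        rw [← Nat.card_congr (subgroupOfEquivOfLe (inf_le_right : I ⊓ L ≤ L)).toEquiv]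
        exact he _ fun x hx => Subtype.ext (hIsq x (mem_subgroupOf.1 hx).1)
      split
      next h3 =>
        have hIle : I ≤ L := le_of_odd_index (hodd3 h3) (hI ▸ isPGroup_img hAsq)
        rw [inf_eq_left.2 hIle] at hinf
        rwa [add_zero]
      next h3 =>
        obtain ⟨r, hr, hrodd, hrL⟩ : ∃ r : ℕ, r.Prime ∧ Odd r ∧ r ∣ Nat.card L := by
          obtain ⟨d, hdo, hddvd, hdn⟩ := hd 1 le_rfl (by simp only [if_neg h3]; omega)
          have hd1 : d ≠ 1 := fun e' => hdn (by subst e'; exact one_dvd _)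
          obtain ⟨r, hr, hrd⟩ := Nat.exists_prime_and_dvd hd1
          exact ⟨r, hr, hdo.of_dvd_nat hrd, hrd.trans hddvd⟩
        haveI := Fact.mk hr
        obtain ⟨S⟩ : Nonempty (Sylow r L) := inferInstance
        have hr2 : r ≠ 2 := fun e' => by rw [e'] at hrodd; exact absurd hrodd (by decide)
        have := helem X (quotient_isCIT hG h) L hLn hLs hLna r hr hrodd hrL S (hcyc hr2 S) I hIsq
        exact this.trans ((Nat.mul_le_mul_left 2 hinf).trans_eq (pow_succ' 2 e).symm)
    have hcpos : 0 < Nat.card ↥(A ⊓ R) := Nat.card_pos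
    have hb := card_bound hG h hA hAR
    rw [← hcardA, mul_pow] at hb
    have hW1 : Nat.card ↥(Wof R) ≤ Nat.card I ^ 2 := Nat.le_of_mul_le_mul_right hb (by positivity)
    have hW2 : Nat.card ↥(Wof R) ≤ 2 ^ (2 * (e + (if 3 ∣ Nat.card L then 0 else 1))) := by
      refine hW1.trans ((Nat.pow_le_pow_left hIL 2).trans_eq ?_)
      rw [← pow_mul, mul_comm]
    obtain ⟨d, hdc⟩ := card_W_pow h
    have hd1 : 1 ≤ d := by
      rcases d with _ | d
      · have hgt := (Subgroup.one_lt_card_iff_ne_bot (Wof R)).2 (W_ne_bot h)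
        rw [hdc, pow_zero] at hgt
        omega
      · omega
    have hd2 := (Nat.pow_le_pow_iff_right (by norm_num : 1 < 2)).1 (hdc ▸ hW2)
    obtain ⟨r, hro, hrL, hrn⟩ := hd d hd1 hd2
    apply hrn
    rw [← hdc]
    exact odd_dvd_card_W hG h hro (hrL.trans hLM)

end Cfsg.Agent.CIT.Offender
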