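import Cfsg.Agent.Lib.CIT.Offender.Three
import Cfsg.Agent.Lib.Classical.GL2
import Cfsg.Agent.S3050

/-!
# The offender lemma for CIT groups: the natural module of `SL₂(2ⁿ)`

If `M/R` has a normal subgroup `L ≅ SL₂(2ⁿ)` of odd index, then `R` is its natural module and the
offender together with `R` gives the two maximal elementary abelian subgroups of `P`.
-/

set_option autoImplicit false
set_option linter.unusedSectionVars false

namespace Cfsg.Agent.CIT.Offender

open Subgroup Cfsg Cfsg.Agent.JComp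
open scoped MatrixGroups

universe u

variable {G : Type u} [Group G] [Finite G] {M R P : Subgroup G}

theorem eq_P_of_le (h : OffenderHyp M R P) {Q : Subgroup G} (hPQ : P ≤ Q) (hQM : Q ≤ M)
    (hQ : IsPGroup 2 Q) : Q = P := by
  have : Fact (Nat.Prime 2) := ⟨Nat.prime_two⟩
  have hd : P.relIndex Q ∣ P.relIndex M := by
    rw [← relIndex_mul_relIndex P Q M hPQ hQM]
    exact dvd_mul_right _ _
  obtain ⟨n, hn⟩ := hQ.exists_card_eq
  obtain ⟨j, -, hj⟩ := (Nat.dvd_prime_pow Nat.prime_two).1 (hn ▸ relIndex_dvd_card P Q : P.relIndex Q ∣ 2 ^ n)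
  have hodd : Odd (P.relIndex Q) := h.P_odd.of_dvd_nat hd
  have h1 : P.relIndex Q = 1 := by
    rcases j with _ | j
    · simpa using hj
    · rw [hj, pow_succ'] at hodd
      exact absurd hodd (Nat.not_odd_iff_even.2 (even_two_mul _))
  exact le_antisymm (relIndex_eq_one.1 h1) hPQ

theorem le_of_odd_index {X : Type u} [Group X] {L : Subgroup X} [L.Normal] (hodd : Odd L.index)
    {B : Subgroup X} (hB : IsPGroup 2 B) : B ≤ L := by
  intro x hx
  obtain ⟨k, hk⟩ := hB ⟨x, hx⟩
  rw [← QuotientGroup.eq_one_iff, ← orderOf_eq_one_iff]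
  have h1 : orderOf (x : X ⧸ L) ∣ 2 ^ k := orderOf_dvd_of_pow_eq_one (by
    rw [← QuotientGroup.mk_pow, show x ^ 2 ^ k = 1 from congrArg Subtype.val hk, QuotientGroup.mk_one])
  have h2 : orderOf (x : X ⧸ L) ∣ L.index := by
    rw [Subgroup.index_eq_card]
    exact orderOf_dvd_natCard _
  exact Nat.eq_one_of_dvd_coprimes ((Nat.coprime_two_left.2 hodd).pow_left k) h1 h2

theorem three_dvd_sq_sub_one (n : ℕ) : 3 ∣ (2 ^ n - 1) * (2 ^ n + 1) := by
  have h : 2 ^ n % 3 = 1 ∨ 2 ^ n % 3 = 2 := by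
    induction n with
    | zero => left; rfl
    | succ n ih =>
      rw [pow_succ, Nat.mul_mod]
      rcases ih with e | e <;> rw [e] <;> simp
  rcases h with e | e
  · exact (Nat.dvd_of_mod_eq_zero (by omega)).mul_right _
  · exact (Nat.dvd_of_mod_eq_zero (by omega)).mul_left _

variable [(R.subgroupOf M).Normal]

theorem natural_offender (hG : IsCIT G) (h : OffenderHyp M R P) {A : Subgroup G} (hA : MaxEA P A)
    (hAR : ¬ A ≤ R) (L : Subgroup (↥M ⧸ R.subgroupOf M)) [L.Normal] (hodd : Odd L.index)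
    {K : Type} [Field K] [Fintype K] {n : ℕ} (hn : 2 ≤ n) (hK : Fintype.card K = 2 ^ n)
    (e : L ≃* Matrix.SpecialLinearGroup (Fin 2) K) : NaturalOffender M R P A n := by
  have : Fact (Nat.Prime 2) := ⟨Nat.prime_two⟩
  set π := QuotientGroup.mk' (R.subgroupOf M) with hπ
  obtain ⟨q, hq⟩ : ∃ q, q = 2 ^ n := ⟨_, rfl⟩
  have hq4 : 4 ≤ q := by
    rw [hq]
    exact le_trans (by norm_num) (Nat.pow_le_pow_right (by norm_num) hn)
  have hAsq : ∀ x ∈ A, x * x = 1 := fun x hx => isElementaryAbelian_two_sq hA.2.1 hx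
  have hAM : A ≤ M := hA.1.trans h.P_le
  have hLcard : Nat.card L = q * ((q - 1) * (q + 1)) := by
    rw [Nat.card_congr e.toEquiv, hq, ← hK]
    exact Cfsg.Agent.Classical.GL2.natCard_SL_two
  have hoddq : Odd ((q - 1) * (q + 1)) := by
    have hev : Even q := hq ▸ even_two.pow_of_ne_zero (by omega)
    exact (Nat.Even.sub_odd (by omega) hev odd_one).mul hev.add_one
  set I := img (M := M) R A with hI
  have hI2 : IsPGroup 2 I := IsPGroup.iff_orderOf.2 fun x => by
    obtain ⟨i, -, hi⟩ := (Nat.dvd_prime_pow Nat.prime_two (m := 1)).1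
      (orderOf_dvd_of_pow_eq_one (x := x) (Subtype.ext (by
        rw [pow_one, Subgroup.coe_pow, pow_two]; exact img_sq hAsq x.1 x.2)))
    exact ⟨i, hi⟩
  have hIL : I ≤ L := le_of_odd_index hodd hI2
  have hIq : Nat.card I ∣ q := by
    obtain ⟨i, hi⟩ := hI2.exists_card_eq
    have h1 : Nat.card I ∣ q * ((q - 1) * (q + 1)) := hLcard ▸ card_dvd_of_le hIL
    rw [hi] at h1 ⊢
    exact ((Nat.coprime_two_left.2 hoddq).pow_left i).dvd_of_dvd_mul_right h1
  have hcardA := card_img (M := M) (R := R) hAM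
  obtain ⟨c, hc⟩ : ∃ c, c = Nat.card ↥(A ⊓ R) := ⟨_, rfl⟩
  rw [← hc, ← hI] at hcardA
  have hcpos : 0 < c := hc ▸ Nat.card_pos
  have hXM := card_quotient h
  have hLM : Nat.card L ∣ Nat.card M := (card_subgroup_dvd_card L).trans ⟨_, hXM.symm⟩
  have hIle : Nat.card I ≤ q := Nat.le_of_dvd (by omega) hIq
  have hbound := card_bound hG h hA hAR
  rw [← hcardA, ← hc, mul_pow] at hbound
  have hWI : Nat.card ↥(Wof R) ≤ Nat.card I ^ 2 := Nat.le_of_mul_le_mul_right hbound (by positivity)
  have hWdvd : (q - 1) * (q + 1) ∣ Nat.card ↥(Wof R) - 1 :=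
    odd_dvd_card_W hG h hoddq ((hLcard ▸ dvd_mul_left _ _ : _ ∣ Nat.card L).trans hLM)
  have hW : Nat.card ↥(Wof R) = q ^ 2 := by
    have hW2 := (Subgroup.one_lt_card_iff_ne_bot (Wof R)).2 (W_ne_bot h)
    have h1 := Nat.le_of_dvd (by omega) hWdvd
    have h2 : (q - 1) * (q + 1) + 1 = q ^ 2 := by
      obtain ⟨b, rfl⟩ : ∃ b, q = b + 1 := ⟨q - 1, by omega⟩
      simp only [Nat.add_sub_cancel]; ring
    have h3 := Nat.pow_le_pow_left hIle 2
    omega
  have hIcard : Nat.card I = q := le_antisymm hIle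
    (le_of_pow_le_pow_left₀ (by norm_num) (Nat.zero_le _) (hW ▸ hWI))
  have hAcard : Nat.card A = q * c := by rw [← hcardA, hIcard]
  -- the preimage of L
  set M₁ : Subgroup G := (L.comap π).map M.subtype with hM₁
  have hM₁le : M₁ ≤ M := map_subtype_le _
  have hmem₁ : ∀ x (hx : x ∈ M), x ∈ M₁ ↔ π ⟨x, hx⟩ ∈ L := fun x hx =>
    ⟨fun ⟨y, hy, hyx⟩ => by rwa [show (⟨x, hx⟩ : M) = y from Subtype.ext hyx.symm],
      fun hy => ⟨⟨x, hx⟩, hy, rfl⟩⟩
  have hnorm₁ : M ≤ normalizer (M₁ : Set G) := fun g hg => by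
    refine mem_normalizer_of_cjg_le fun z hz => ?_
    obtain ⟨_, ⟨w, hw, rfl⟩, rfl⟩ := hz
    exact ⟨⟨g, hg⟩ * w * (⟨g, hg⟩ : M)⁻¹, ((inferInstance : L.Normal).comap π).conj_mem w hw ⟨g, hg⟩, rfl⟩
  have hM₁idx : M₁.relIndex M = L.index := by
    rw [Subgroup.relIndex, show M₁.subgroupOf M = L.comap π from
      Subgroup.comap_map_eq_self_of_injective M.subtype_injective _,
      Subgroup.index_comap_of_surjective _ (QuotientGroup.mk'_surjective _)]
  have hP₁ : P ≤ M₁ := fun x hx => by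
    rw [hmem₁ x (h.P_le hx)]
    have hpi : IsPGroup 2 ↥((P.subgroupOf M).map π) :=
      (h.P_pgroup.comap_of_injective M.subtype M.subtype_injective).map _
    exact le_of_odd_index hodd hpi ⟨⟨x, h.P_le hx⟩, hx, rfl⟩
  have hR₁ : R ≤ M₁ := (R_le_P h).trans hP₁
  let f : M₁ →* Matrix.SpecialLinearGroup (Fin 2) K :=
    e.toMonoidHom.comp ((π.comp (Subgroup.inclusion hM₁le)).codRestrict L
      fun x => (hmem₁ x.1 (hM₁le x.2)).1 x.2)
  have hf : Function.Surjective f := by
    intro s
    obtain ⟨⟨y, hy⟩, rfl⟩ := e.surjective s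
    obtain ⟨⟨x, hx⟩, rfl⟩ := QuotientGroup.mk'_surjective (R.subgroupOf M) y
    exact ⟨⟨x, (hmem₁ x hx).2 hy⟩, rfl⟩
  have hfker : f.ker = R.subgroupOf M₁ := by
    ext x
    rw [MonoidHom.mem_ker, Subgroup.mem_subgroupOf]
    show e _ = 1 ↔ _
    rw [map_eq_one_iff e e.injective, Subtype.ext_iff]
    exact mk_eq_one_iff
  haveI : (R.subgroupOf M₁).Normal := hfker ▸ f.normal_ker
  let eQ : M₁ ⧸ R.subgroupOf M₁ ≃* Matrix.SpecialLinearGroup (Fin 2) K :=
    (QuotientGroup.quotientMulEquivOfEq hfker.symm).trans (QuotientGroup.quotientKerEquivOfSurjective f hf)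
  have h3 : 3 ∣ Nat.card M₁ := by
    have h31 : 3 ∣ Nat.card (Matrix.SpecialLinearGroup (Fin 2) K) := by
      rw [← Nat.card_congr e.toEquiv, hLcard, hq]
      exact (three_dvd_sq_sub_one n).mul_left _
    exact h31.trans (Subgroup.card_dvd_of_surjective f hf)
  obtain ⟨x, hx⟩ := exists_prime_orderOf_dvd_card' (G := M₁) 3 h3
  obtain ⟨⟨hcomm, hsq⟩, k, V, hV, -, hVsup⟩ := Cfsg.Agent.S3050.result (R.subgroupOf M₁)
    (h.R_pgroup.comap_of_injective M₁.subtype M₁.subtype_injective) n hn K hK eQ x hx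
    fun r hr hfix => by
      by_contra hne
      have h1 : (x : G) = 1 := eq_one_of_fixed hG h (Subgroup.mem_subgroupOf.1 hr)
        (fun e' => hne (Subtype.ext e')) (by rw [Subgroup.orderOf_coe, hx]; decide)
        (congrArg Subtype.val (mul_inv_eq_iff_eq_mul.1 hfix))
      rw [← Subgroup.orderOf_coe, h1, orderOf_one] at hx
      omega
  have hRsq : ∀ r ∈ R, r * r = 1 := fun r hr => by
    have h1 := congrArg Subtype.val (hsq ⟨r, hR₁ hr⟩ hr)
    rwa [Subgroup.coe_pow, pow_two, OneMemClass.coe_one] at h1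
  have hWR : Wof R = R :=
    le_antisymm (W_le R) fun r hr => mem_W.2 ⟨hr, fun s hs => comm_of_sq hRsq hs hr, hRsq r hr⟩
  have hRcard : Nat.card R = q ^ 2 := by rw [← hW, hWR]
  -- the offender
  have hcq : c = q := by
    apply le_antisymm
    · obtain ⟨a, haA, haR⟩ := SetLike.not_le_iff_exists.1 hAR
      have h1 := card_cent_sq_le hG h (hAM haA) (hAsq a haA) haR
      rw [hWR, hRcard] at h1
      refine le_trans ?_ (le_of_pow_le_pow_left₀ (by norm_num) (Nat.zero_le _) h1)
      rw [hc]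
      exact card_le_of_le fun y hy =>
        ⟨hy.2, mem_centralizer_singleton_iff.2 (comm_of_sq hAsq hy.1 haA)⟩
    · have h1 := hA.2.2 R (R_le_P h) (isElementaryAbelian_two_of hRsq)
      rw [hRcard, hAcard, pow_two] at h1
      exact Nat.le_of_mul_le_mul_left h1 (by omega)
  have hAcard2 : Nat.card A = q ^ 2 := by rw [hAcard, hcq, pow_two]
  have hcent : ∀ a ∈ A, a ∉ R → ∀ r ∈ R, r * a = a * r → r ∈ A := by
    intro a haA haR r hr hra
    have h1 := card_cent_sq_le hG h (hAM haA) (hAsq a haA) haR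
    rw [hWR, hRcard] at h1
    have h2 := le_of_pow_le_pow_left₀ (by norm_num) (Nat.zero_le _) h1
    have h3 : A ⊓ R ≤ R ⊓ centralizer ({a} : Set G) := fun y hy =>
      ⟨hy.2, mem_centralizer_singleton_iff.2 (comm_of_sq hAsq hy.1 haA)⟩
    have h4 := eq_of_le_of_card_ge h3 (h2.trans (by rw [← hc, hcq]))
    have h5 : r ∈ R ⊓ centralizer ({a} : Set G) := ⟨hr, mem_centralizer_singleton_iff.2 hra⟩
    rw [← h4] at h5
    exact h5.1
  have hAn : A ≤ normalizer (R : Set G) := hAM.trans h.R_normal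
  have hsupcard : Nat.card ↥(R ⊔ A) = q ^ 3 := by
    have h1 := card_sup_mul_inf hAn
    rw [inf_comm, ← hc, hcq, hRcard, hAcard2] at h1
    refine Nat.eq_of_mul_eq_mul_right (show 0 < q by omega) ?_
    rw [h1]; ring
  have hsup : R ⊔ A = P := by
    have hle : R ⊔ A ≤ P := sup_le (R_le_P h) hA.1
    have h2 := card_mul_relIndex' (hle.trans h.P_le)
    have h3 : (R ⊔ A).relIndex M = (q - 1) * (q + 1) * L.index := by
      apply Nat.eq_of_mul_eq_mul_left (show 0 < q ^ 3 by positivity)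
      rw [← hsupcard, h2, hsupcard, ← hXM, hRcard, ← Subgroup.index_mul_card L, hLcard]
      ring
    have h4 : Odd ((R ⊔ A).relIndex P) := by
      refine Odd.of_dvd_nat (hoddq.mul hodd) (h3 ▸ ?_)
      rw [← relIndex_mul_relIndex _ P M hle h.P_le]
      exact dvd_mul_right _ _
    have h5 : (R ⊔ A).relIndex P = 1 := by
      obtain ⟨j, hj⟩ := h.P_pgroup.exists_card_eq
      exact Nat.eq_one_of_dvd_coprimes ((Nat.coprime_two_left.2 h4).pow_left j)
        (hj ▸ relIndex_dvd_card _ _) dvd_rfl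
    exact le_antisymm hle (relIndex_eq_one.1 h5)
  have hdec : ∀ y ∈ P, ∃ r ∈ R, ∃ a ∈ A, y = r * a := fun y hy =>
    exists_mul_of_le_normalizer hAn (hsup.symm ▸ hy)
  have hinvol : ∀ y ∈ P, y * y = 1 → y ∈ R ∨ y ∈ A := by
    intro y hy hy2
    obtain ⟨r, hr, a, ha, rfl⟩ := hdec y hy
    by_cases haR : a ∈ R
    · exact Or.inl (mul_mem hr haR)
    · refine Or.inr (mul_mem (hcent a ha haR r hr ?_) ha)
      calc r * a = (r * a)⁻¹ := (inv_eq_of_mul_eq_one_right hy2).symm
        _ = a * r := by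
          rw [mul_inv_rev, inv_eq_of_mul_eq_one_right (hRsq r hr), inv_eq_of_mul_eq_one_right (hAsq a ha)]
  have hzcomm : ∀ z ∈ R ⊓ A, ∀ y ∈ P, z * y = y * z := by
    intro z hz y hy
    obtain ⟨r, hr, a, ha, rfl⟩ := hdec y hy
    exact ((show Commute z r from comm_of_sq hRsq hz.1 hr).mul_right
      (show Commute z a from comm_of_sq hAsq hz.2 ha)).eq
  exact
    { two_le := hn
      R_le_P := R_le_P h
      A_le := hA.1
      sup_eq := hsup
      A_not_le := hAR
      R_sq := hRsq
      A_sq := hAsq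
      R_card := by rw [hRcard, hq]
      A_card := by rw [hAcard2, hq]
      inf_card := by rw [inf_comm, ← hc, hcq, hq]
      card_P := by rw [← hsup, hsupcard, hq]
      involutions := hinvol
      elem_le := fun B hB hB2 => by
        by_contra hne
        push Not at hne
        obtain ⟨b₁, hb₁, hb₁R⟩ := SetLike.not_le_iff_exists.1 hne.1
        obtain ⟨b₂, hb₂, hb₂A⟩ := SetLike.not_le_iff_exists.1 hne.2
        have h1 := (hinvol b₁ (hB hb₁) (hB2 b₁ hb₁)).resolve_left hb₁R
        have h2 := (hinvol b₂ (hB hb₂) (hB2 b₂ hb₂)).resolve_right hb₂A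
        exact hb₂A (hcent b₁ h1 hb₁R b₂ h2 (comm_of_sq hB2 hb₂ hb₁))
      commute_iff := fun r hr a ha haR => ⟨hcent a ha haR r hr, fun hrA => comm_of_sq hAsq hrA ha⟩
      center := fun y hy => ⟨fun hyc => by
          obtain ⟨r, hr, a, ha, rfl⟩ := hdec y hy
          have haR : a ∈ R := by
            by_contra haR
            obtain ⟨a', ha', ha'R⟩ := SetLike.not_le_iff_exists.1 hAR
            have hle : R ≤ A ⊓ R := fun s hs => ⟨hcent a ha haR s hs (by
              have h1 := hyc s (R_le_P h hs)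
              refine mul_left_cancel (a := r) ?_
              calc r * (s * a) = (r * s) * a := (mul_assoc _ _ _).symm
                _ = (s * r) * a := by rw [comm_of_sq hRsq hr hs]
                _ = s * (r * a) := mul_assoc _ _ _
                _ = (r * a) * s := h1.symm
                _ = r * (a * s) := mul_assoc _ _ _), hs⟩
            have h2 := card_le_of_le hle
            rw [← hc, hcq, hRcard, pow_two] at h2
            nlinarith
          obtain ⟨a', ha', ha'R⟩ := SetLike.not_le_iff_exists.1 hAR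
          exact ⟨mul_mem hr haR, hcent a' ha' ha'R _ (mul_mem hr haR) (hyc a' (hA.1 ha'))⟩,
        fun hy' z hz => hzcomm y hy' z hz⟩
      jOf_eq := by
        refine le_antisymm (J_le P) ?_
        have hR : MaxEA P R := ⟨R_le_P h, isElementaryAbelian_two_of hRsq,
          fun B hB hBe => (hA.2.2 B hB hBe).trans_eq (by rw [hAcard2, hRcard])⟩
        exact hsup.symm.le.trans (sup_le hR.le_J hA.le_J)
      cent_z := fun z hz hz1 => by
        refine eq_P_of_le h (le_inf (fun y hy => ?_) h.P_le) inf_le_right ?_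
        · exact mem_centralizer_singleton_iff.2 (hzcomm z hz y hy).symm
        · intro y
          obtain ⟨j, hj⟩ := pow_two_eq_one_of_commute hG (hRsq z hz.1) hz1
            (mem_centralizer_singleton_iff.1 y.2.1)
          exact ⟨j, Subtype.ext (by simpa using hj)⟩
      natural := by
        refine ⟨K, inferInstance, inferInstance, M₁, hK, hP₁, hM₁le, hnorm₁, hM₁idx ▸ hodd,
          le_antisymm (fun y hy => h.cent ⟨hy.1, hM₁le hy.2⟩)
            (le_inf (fun r hr => mem_centralizer_iff.2 fun s hs => comm_of_sq hRsq hs hr) hR₁), ?_⟩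
        obtain ⟨i⟩ : Nonempty (Fin k) := by
          by_contra hne
          rw [not_nonempty_iff] at hne
          rw [iSup_of_empty] at hVsup
          obtain ⟨r, hr, hr1⟩ : ∃ r ∈ R, r ≠ 1 := (Subgroup.ne_bot_iff_exists_ne_one.1 (R_ne_bot h)).elim
            fun w hw => ⟨w.1, w.2, fun e' => hw (Subtype.ext e')⟩
          have h1 : (⟨r, hR₁ hr⟩ : M₁) ∈ R.subgroupOf M₁ := hr
          rw [← hVsup, mem_bot] at h1
          exact hr1 (congrArg Subtype.val h1)
        obtain ⟨hVle, -, -, -, ρ, ψ, hρ, hψ, hψker, hψact⟩ := hV i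
        have hψinj : Function.Injective ψ := by
          rw [injective_iff_map_eq_one]
          intro u hu
          exact Subtype.ext (mem_bot.1 ((hψker u).1 hu))
        have hVR : V i = R.subgroupOf M₁ := by
          refine eq_of_le_of_card_ge hVle (le_of_eq ?_)
          rw [Nat.card_congr (subgroupOfEquivOfLe hR₁).toEquiv,
            Nat.card_congr (Equiv.ofBijective ψ ⟨hψinj, hψ⟩),
            Nat.card_congr Multiplicative.toAdd, Nat.card_fun, Nat.card_fin,
            Nat.card_eq_fintype_card (α := K), hK, hRcard, hq]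
        let θ : R ≃* V i :=
          ((MulEquiv.subgroupCongr hVR).trans (subgroupOfEquivOfLe hR₁)).symm
        refine ⟨hM₁le.trans h.R_normal, bot_le,
          ρ.comp (Subgroup.topEquiv (G := M₁)).symm.toMonoidHom, ψ.comp θ.toMonoidHom, ?_,
          hψ.comp θ.surjective, fun u => ?_, fun g u => ?_⟩
        · rw [MonoidHom.range_comp, MonoidHom.range_eq_top.2 (Subgroup.topEquiv (G := M₁)).symm.surjective,
            ← MonoidHom.range_eq_map, hρ]
        · rw [mem_bot, MonoidHom.comp_apply]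
          refine ⟨fun h1 => ?_, fun h1 => ?_⟩
          · have h2 := hψinj (h1.trans (map_one ψ).symm)
            exact congrArg Subtype.val ((map_eq_one_iff θ.toMonoidHom θ.injective).1 h2)
          · rw [show u = 1 from Subtype.ext h1, map_one, map_one]
        · obtain ⟨w, hw, hw'⟩ := hψact ⟨g, mem_top g⟩ (θ u)
          have hwR : ((w : M₁) : G) ∈ R := hVle w.2
          refine ⟨⟨_, hwR⟩, congrArg Subtype.val hw, ?_⟩
          exact hw' }

end Cfsg.Agent.CIT.Offender
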