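import Cfsg.Agent.Lib.CIT.Offender.Quotient
import Cfsg.Agent.GStructB.OrderThreeFpf

/-!
# The offender lemma for CIT groups: elements of order three acting on `R`
-/

set_option autoImplicit false
set_option linter.unusedSectionVars false

namespace Cfsg.Agent.CIT.Offender

open Subgroup Cfsg Cfsg.Agent.JComp
open scoped commutatorElement

universe u

variable {G : Type u} [Group G] [Finite G] {M R P : Subgroup G}

/-- `x · yxy⁻¹ · y²xy⁻² = 1` on `R` for `y` of order three. -/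
theorem three_identity (hG : IsCIT G) (h : OffenderHyp M R P) {y : G} (hy : y ∈ M) (hy3 : orderOf y = 3)
    {x : G} (hx : x ∈ R) : x * (y * x * y⁻¹) * (y * (y * x * y⁻¹) * y⁻¹) = 1 := by
  let φ : R → R := fun s => ⟨(s : G)⁻¹ * (y * s * y⁻¹), mul_mem (inv_mem s.2) (conj_mem_R h hy s.2)⟩
  have hinj : Function.Injective φ := by
    intro s t hst
    have e : (s : G)⁻¹ * (y * s * y⁻¹) = (t : G)⁻¹ * (y * t * y⁻¹) := congrArg Subtype.val hst
    have hc : y * ((t : G) * (s : G)⁻¹) = ((t : G) * (s : G)⁻¹) * y := by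
      calc y * ((t : G) * (s : G)⁻¹) = (y * t * y⁻¹) * (y * s * y⁻¹)⁻¹ * y := by group
        _ = ((t : G) * ((t : G)⁻¹ * (y * t * y⁻¹))) * (((s : G)⁻¹ * (y * s * y⁻¹))⁻¹ * (s : G)⁻¹) * y := by group
        _ = ((t : G) * (s : G)⁻¹) * y := by rw [← e]; group
    by_contra hne
    have h1 : (t : G) * (s : G)⁻¹ ≠ 1 := fun e' => hne (Subtype.ext (mul_inv_eq_one.1 e').symm)
    have := eq_one_of_fixed hG h (mul_mem t.2 (inv_mem s.2)) h1 (hy3 ▸ by decide) hc
    rw [this, orderOf_one] at hy3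
    omega
  obtain ⟨s, hs⟩ := Finite.injective_iff_surjective.1 hinj ⟨x, hx⟩
  have hxs : x = (s : G)⁻¹ * (y * s * y⁻¹) := (congrArg Subtype.val hs).symm
  have hy' : y * y * y = 1 := by rw [show y * y * y = y ^ 3 by simp only [pow_succ, pow_zero, one_mul], ← hy3, pow_orderOf_eq_one]
  calc x * (y * x * y⁻¹) * (y * (y * x * y⁻¹) * y⁻¹)
      = (s : G)⁻¹ * ((y * y * y) * s * (y * y * y)⁻¹) := by rw [hxs]; group
    _ = 1 := by rw [hy']; group

/-- An element of `R` commutes with its image under an element of order three. -/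
theorem three_commute (hG : IsCIT G) (h : OffenderHyp M R P) {y : G} (hy : y ∈ M) (hy3 : orderOf y = 3)
    {x : G} (hx : x ∈ R) : x * (y * x * y⁻¹) = (y * x * y⁻¹) * x := by
  have h1 := eq_inv_of_mul_eq_one_right (three_identity hG h hy hy3 hx)
  have h2 := eq_inv_of_mul_eq_one_right (three_identity hG h hy hy3 (inv_mem hx))
  have h4 : (x * (y * x * y⁻¹))⁻¹ = x⁻¹ * (y * x⁻¹ * y⁻¹) := by
    calc (x * (y * x * y⁻¹))⁻¹ = y * (y * x * y⁻¹) * y⁻¹ := h1.symm
      _ = (y * (y * x⁻¹ * y⁻¹) * y⁻¹)⁻¹ := by simp only [mul_inv_rev, inv_inv, mul_assoc]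
      _ = _ := by rw [h2, inv_inv]
  calc x * (y * x * y⁻¹) = ((x * (y * x * y⁻¹))⁻¹)⁻¹ := (inv_inv _).symm
    _ = (x⁻¹ * (y * x⁻¹ * y⁻¹))⁻¹ := by rw [h4]
    _ = y * x * y⁻¹ * x := by group

/-- `R` has class at most two. -/
theorem commutator_central (hG : IsCIT G) (h : OffenderHyp M R P) {y : G} (hy : y ∈ M)
    (hy3 : orderOf y = 3) {a b c : G} (ha : a ∈ R) (hb : b ∈ R) (hc : c ∈ R) :
    c * ⁅a, b⁆ = ⁅a, b⁆ * c := by
  have : Fact (Nat.Prime 2) := ⟨Nat.prime_two⟩
  let φ : R →* R :=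
    { toFun := fun x => ⟨y * x * y⁻¹, conj_mem_R h hy x.2⟩
      map_one' := Subtype.ext (show y * (1 : G) * y⁻¹ = 1 by group)
      map_mul' := fun x x' => Subtype.ext
        (show y * ((x : G) * x') * y⁻¹ = (y * x * y⁻¹) * (y * x' * y⁻¹) by group) }
  have hN : ∀ x : R, x * φ x * φ (φ x) = 1 := fun x => Subtype.ext (three_identity hG h hy hy3 x.2)
  have hcc : ∀ x g : R, Commute x (g * φ x * g⁻¹) := by
    intro x g
    have h3 : ((g : G) * y) ^ 3 = 1 := by
      have e := three_identity hG h hy hy3 g.2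
      have hy' : y * y * y = 1 := by rw [show y * y * y = y ^ 3 by simp only [pow_succ, pow_zero, one_mul], ← hy3, pow_orderOf_eq_one]
      calc ((g : G) * y) ^ 3 = (g : G) * (y * g * y⁻¹) * (y * (y * g * y⁻¹) * y⁻¹) * (y * y * y) := by
            simp only [pow_succ, pow_zero]; group
        _ = 1 := by rw [e, hy', one_mul]
    have hne : (g : G) * y ≠ 1 := fun e => by
      have h1 : y = 1 := eq_one_of_mem_R h (by rw [eq_inv_of_mul_eq_one_right e]; exact inv_mem g.2)
        (hy3 ▸ by decide)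
      rw [h1, orderOf_one] at hy3
      omega
    have ho : orderOf ((g : G) * y) = 3 := orderOf_eq_prime h3 hne
    refine Subtype.ext ?_
    have e := three_commute hG h (mul_mem (h.R_le g.2) hy) ho x.2
    show (x : G) * ((g : G) * (y * x * y⁻¹) * (g : G)⁻¹) = ((g : G) * (y * x * y⁻¹) * (g : G)⁻¹) * x
    calc (x : G) * ((g : G) * (y * x * y⁻¹) * (g : G)⁻¹)
        = (x : G) * (((g : G) * y) * x * ((g : G) * y)⁻¹) := by group
      _ = (((g : G) * y) * x * ((g : G) * y)⁻¹) * x := e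
      _ = _ := by group
  have hcop : (Nat.card R).Coprime 3 := by
    obtain ⟨k, hk⟩ := h.R_pgroup.exists_card_eq
    rw [hk]
    exact Nat.Coprime.pow_left k (by decide)
  have hT := GStructB.OrderThreeFpf.class_two (Nat.card R) rfl h.R_pgroup.isNilpotent φ hN hcc hcop
    ⟨a, ha⟩ ⟨b, hb⟩ ⟨c, hc⟩
  have := congrArg Subtype.val (commutatorElement_eq_one_iff_mul_comm.1 hT)
  exact this.symm

end Cfsg.Agent.CIT.Offender
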