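import Cfsg.Agent.Lib.CIT.Offender.Basic

/-!
# The offender lemma for CIT groups: the quotient `M / R`
-/

set_option autoImplicit false
set_option linter.unusedSectionVars false

namespace Cfsg.Agent.CIT.Offender

open Subgroup Cfsg Cfsg.Agent.JComp

universe u

variable {G : Type u} [Group G] [Finite G] {M R P : Subgroup G}

theorem eq_one_of_mem_R (h : OffenderHyp M R P) {y : G} (hy : y ∈ R) (hodd : Odd (orderOf y)) :
    y = 1 := by
  obtain ⟨k, hk⟩ := orderOf_pgroup h.R_pgroup hy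
  rcases k with _ | k
  · exact orderOf_eq_one_iff.1 (by simpa using hk)
  · rw [hk, pow_succ'] at hodd
    exact absurd hodd (Nat.not_odd_iff_even.2 (even_two_mul _))

/-- An element of odd order centralizing an involution of `M/R` lies in `R`. -/
theorem eq_one_of_commute_mod (hG : IsCIT G) (h : OffenderHyp M R P) {s y : G} (hs : s ∈ M)
    (hs2 : s * s ∈ R) (hsR : s ∉ R) (hy : y ∈ M) (hyo : Odd (orderOf y))
    (hc : s⁻¹ * (y * s * y⁻¹) ∈ R) : y = 1 := by
  by_contra hy1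
  obtain ⟨p, hp, hpy⟩ := Nat.exists_prime_and_dvd (fun e => hy1 (orderOf_eq_one_iff.1 e))
  haveI := Fact.mk hp
  set z := y ^ (orderOf y / p) with hz
  have hzo : orderOf z = p := orderOf_pow_orderOf_div (orderOf_pos y).ne' hpy
  have hp2 : p ≠ 2 := fun e => Nat.not_even_iff_odd.2 (hyo.of_dvd_nat (e ▸ hpy)) even_two
  have hpow : ∀ n : ℕ, s⁻¹ * (y ^ n * s * (y ^ n)⁻¹) ∈ R := by
    intro n
    induction n with
    | zero =>
      rw [pow_zero, show s⁻¹ * (1 * s * 1⁻¹) = (1 : G) by group]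
      exact one_mem R
    | succ n ih =>
      rw [show s⁻¹ * (y ^ (n + 1) * s * (y ^ (n + 1))⁻¹) =
        (s⁻¹ * (y * s * y⁻¹)) * (y * (s⁻¹ * (y ^ n * s * (y ^ n)⁻¹)) * y⁻¹) by group]
      exact mul_mem hc (conj_mem_R h hy ih)
  have hzM : z ∈ M := pow_mem hy _
  have hmem : ∀ q : zpowers z, ∀ x : {x : G // s⁻¹ * x ∈ R}, s⁻¹ * ((q : G) * x * (q : G)⁻¹) ∈ R := by
    rintro ⟨q, hq⟩ ⟨x, hx⟩
    obtain ⟨n, rfl⟩ := mem_powers_iff_mem_zpowers.2 hq
    have h1 : s⁻¹ * (z ^ n * s * (z ^ n)⁻¹) ∈ R := by rw [hz, ← pow_mul]; exact hpow _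
    show s⁻¹ * (z ^ n * x * (z ^ n)⁻¹) ∈ R
    rw [show s⁻¹ * (z ^ n * x * (z ^ n)⁻¹) =
      (s⁻¹ * (z ^ n * s * (z ^ n)⁻¹)) * (z ^ n * (s⁻¹ * x) * (z ^ n)⁻¹) by group]
    exact mul_mem h1 (conj_mem_R h (pow_mem hzM n) hx)
  let act : MulAction (zpowers z) {x : G // s⁻¹ * x ∈ R} :=
    { smul := fun q x => ⟨(q : G) * x * (q : G)⁻¹, hmem q x⟩
      one_smul := fun x => Subtype.ext (show (1 : G) * (x : G) * (1 : G)⁻¹ = _ by group)
      mul_smul := fun q q' x => Subtype.ext (show ((q : G) * q') * (x : G) * ((q : G) * q')⁻¹ =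
        (q : G) * ((q' : G) * (x : G) * (q' : G)⁻¹) * (q : G)⁻¹ by group) }
  have hzp : IsPGroup p (zpowers z) := IsPGroup.of_card (n := 1) (by rw [Nat.card_zpowers, hzo, pow_one])
  obtain ⟨⟨x, hx⟩, hfix⟩ := hzp.nonempty_fixed_point_of_prime_not_dvd_card (α := {x : G // s⁻¹ * x ∈ R})
    (by
      rw [Nat.card_congr (((Equiv.mulLeft s⁻¹).subtypeEquiv fun x => Iff.rfl) :
        {x : G // s⁻¹ * x ∈ R} ≃ {x : G // x ∈ R})]
      obtain ⟨k, hk⟩ := h.R_pgroup.exists_card_eq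
      show ¬ p ∣ Nat.card ↥R
      rw [hk]
      exact fun hd => hp2 ((Nat.prime_dvd_prime_iff_eq hp Nat.prime_two).1 (hp.dvd_of_dvd_pow hd)))
  have hcomm : z * x = x * z :=
    mul_inv_eq_iff_eq_mul.1 (congrArg Subtype.val (hfix ⟨z, mem_zpowers z⟩))
  have hxM : x ∈ M := by
    rw [show x = s * (s⁻¹ * x) by group]
    exact mul_mem hs (h.R_le hx)
  have hxR : x ∉ R := fun hxR => hsR (by
    rw [show s = x * (s⁻¹ * x)⁻¹ by group]
    exact mul_mem hxR (inv_mem hx))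
  have hx2 : x * x ∈ R := by
    rw [show x * x = (s * s) * (s⁻¹ * (s⁻¹ * x) * s) * (s⁻¹ * x) by group]
    refine mul_mem (mul_mem hs2 ?_) hx
    simpa using conj_mem_R h (inv_mem hs) hx
  obtain ⟨k, hk⟩ := orderOf_pgroup h.R_pgroup hx2
  have hx2k : ∃ k, orderOf x = 2 ^ k := by
    have h2k : x ^ (2 ^ (k + 1)) = 1 := by rw [pow_succ', pow_mul, pow_two, ← hk, pow_orderOf_eq_one]
    obtain ⟨i, -, hi⟩ := (Nat.dvd_prime_pow Nat.prime_two).1 (orderOf_dvd_of_pow_eq_one h2k)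
    exact ⟨i, hi⟩
  obtain ⟨i, hi, hi1⟩ := exists_involution_pow hx2k (fun e => hxR (e ▸ one_mem R))
  have hz1 := eq_one_of_commute hG hi hi1 (hzo.symm ▸ hp.odd_of_ne_two hp2)
    ((show Commute z x from hcomm).pow_right i).eq
  rw [hz1, orderOf_one] at hzo
  exact hp.ne_one hzo.symm

theorem instNormal (h : OffenderHyp M R P) : (R.subgroupOf M).Normal :=
  normal_subgroupOf_of_le_normalizer h.R_normal

variable [(R.subgroupOf M).Normal]

theorem mk_eq_one_iff {x : M} : (QuotientGroup.mk' (R.subgroupOf M) x = 1) ↔ (x : G) ∈ R :=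
  QuotientGroup.eq_one_iff x

theorem card_quotient (h : OffenderHyp M R P) :
    Nat.card (↥M ⧸ R.subgroupOf M) * Nat.card R = Nat.card M := by
  rw [← Nat.card_congr (subgroupOfEquivOfLe h.R_le).toEquiv,
    ← Subgroup.card_eq_card_quotient_mul_card_subgroup]

theorem quotient_core (h : OffenderHyp M R P) (N : Subgroup (↥M ⧸ R.subgroupOf M)) (hN : N.Normal)
    (hN2 : IsPGroup 2 N) : N = ⊥ := by
  rw [eq_bot_iff]
  intro y hy
  obtain ⟨x, rfl⟩ := QuotientGroup.mk'_surjective (R.subgroupOf M) y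
  rw [mem_bot, mk_eq_one_iff]
  refine h.R_max ((N.comap (QuotientGroup.mk' (R.subgroupOf M))).map M.subtype) (map_subtype_le _) ?_ ?_
    ⟨x, hy, rfl⟩
  · intro g hg
    refine mem_normalizer_of_cjg_le fun y hy => ?_
    obtain ⟨_, ⟨z, hz, rfl⟩, rfl⟩ := hy
    exact ⟨⟨g, hg⟩ * z * (⟨g, hg⟩ : M)⁻¹, (hN.comap _).conj_mem z hz ⟨g, hg⟩, rfl⟩
  · refine IsPGroup.map (hN2.comap_of_ker_isPGroup _ ?_) _
    rw [QuotientGroup.ker_mk']
    exact h.R_pgroup.comap_of_injective M.subtype M.subtype_injective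

theorem quotient_isCIT (hG : IsCIT G) (h : OffenderHyp M R P) : IsCIT (↥M ⧸ R.subgroupOf M) := by
  intro t ht
  obtain ⟨s, rfl⟩ := QuotientGroup.mk'_surjective (R.subgroupOf M) t
  rintro ⟨c, hc⟩
  obtain ⟨x, rfl⟩ := QuotientGroup.mk'_surjective (R.subgroupOf M) c
  obtain ⟨k, m, hm, hkm⟩ := Nat.exists_eq_two_pow_mul_odd (orderOf_pos (x : G)).ne'
  refine ⟨k, Subtype.ext ?_⟩
  push_cast
  rw [← map_pow]
  refine mk_eq_one_iff.2 ?_
  have hy : (x : G) ^ (2 ^ k) = 1 := by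
    refine eq_one_of_commute_mod hG h (s := (s : G)) s.2 ?_ ?_ (pow_mem x.2 _) ?_ ?_
    · have h2 := pow_orderOf_eq_one (QuotientGroup.mk' (R.subgroupOf M) s)
      rw [ht, ← map_pow] at h2
      simpa [pow_two] using mk_eq_one_iff.1 h2
    · intro hs
      rw [← mk_eq_one_iff (x := s)] at hs
      rw [hs, orderOf_one] at ht
      exact absurd ht (by omega)
    · rw [orderOf_pow' _ (by positivity), hkm, Nat.gcd_mul_right_left,
        Nat.mul_div_cancel_left m (by positivity)]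
      exact hm
    · have hcs : QuotientGroup.mk' (R.subgroupOf M) (x ^ 2 ^ k) * QuotientGroup.mk' _ s =
          QuotientGroup.mk' _ s * QuotientGroup.mk' _ (x ^ 2 ^ k) := by
        rw [map_pow]
        exact ((show Commute _ _ from (mem_centralizer_singleton_iff.1 hc)).pow_left _).eq
      have h3 : QuotientGroup.mk' (R.subgroupOf M) (s⁻¹ * (x ^ 2 ^ k * s * (x ^ 2 ^ k)⁻¹)) = 1 := by
        rw [map_mul, map_mul, map_mul, map_inv, map_inv, hcs]
        group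
      simpa using mk_eq_one_iff.1 h3
  rw [Subgroup.coe_pow, hy]
  exact one_mem R

/-- The image in `M/R`. -/
abbrev img (R : Subgroup G) {M : Subgroup G} [(R.subgroupOf M).Normal] (A : Subgroup G) :
    Subgroup (↥M ⧸ R.subgroupOf M) :=
  (A.subgroupOf M).map (QuotientGroup.mk' (R.subgroupOf M))

theorem card_img {A : Subgroup G} (hA : A ≤ M) :
    Nat.card ↥(img (M := M) R A) * Nat.card ↥(A ⊓ R) = Nat.card A := by
  let f : A.subgroupOf M →* img (M := M) R A :=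
    (QuotientGroup.mk' (R.subgroupOf M)).subgroupMap (A.subgroupOf M)
  have h1 : Nat.card ↥f.range = Nat.card ↥(img (M := M) R A) := by
    rw [MonoidHom.range_eq_top.2 (MonoidHom.subgroupMap_surjective _ _)]
    exact Nat.card_congr Subgroup.topEquiv.toEquiv
  have h2 : Nat.card f.ker = Nat.card ↥(A ⊓ R) := by
    refine Nat.card_congr
      ⟨fun x => ⟨((x.1 : M) : G), x.1.2, mk_eq_one_iff.1 (congrArg Subtype.val x.2)⟩,
        fun y => ⟨⟨⟨y.1, hA y.2.1⟩, y.2.1⟩, Subtype.ext (mk_eq_one_iff.2 y.2.2)⟩, ?_, ?_⟩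
    · intro x; rfl
    · intro y; rfl
  rw [← Nat.card_congr (subgroupOfEquivOfLe hA).toEquiv, ← h1, ← h2, mul_comm]
  have h3 := Subgroup.index_mul_card f.ker
  rw [Subgroup.index_ker, mul_comm] at h3
  exact h3

theorem img_sq {A : Subgroup G} (hA : ∀ x ∈ A, x * x = 1) : ∀ x ∈ img (M := M) R A, x * x = 1 := by
  rintro _ ⟨x, hx, rfl⟩
  rw [← map_mul, show x * x = 1 from Subtype.ext (hA _ hx), map_one]

end Cfsg.Agent.CIT.Offender
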