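import Cfsg.Agent.Lib.CIT.Offender.OrderThree

/-!
# The offender lemma for CIT groups: the case of an offender of index two over `R`
-/

set_option autoImplicit false
set_option linter.unusedSectionVars false

namespace Cfsg.Agent.CIT.Offender

open Subgroup Cfsg Cfsg.Agent.JComp
open scoped commutatorElement

universe u

/-- A group of order `2^c * 3` without normal 2-subgroups has order at most six. -/
theorem card_dvd_six {X : Type u} [Group X] [Finite X] {c : ℕ} (hX : Nat.card X = 2 ^ c * 3)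
    (hcore : ∀ N : Subgroup X, N.Normal → IsPGroup 2 N → N = ⊥) : Nat.card X ∣ 6 := by
  have : Fact (Nat.Prime 2) := ⟨Nat.prime_two⟩
  obtain ⟨T, hT⟩ := Sylow.exists_subgroup_card_pow_prime (G := X) 2 (n := c) (hX ▸ dvd_mul_right _ _)
  have hidx : T.index = 3 := by
    have h := Subgroup.index_mul_card T
    rw [hT, hX, mul_comm (2 ^ c) 3] at h
    exact Nat.eq_of_mul_eq_mul_right (by positivity) h
  have hker : (MulAction.toPermHom X (X ⧸ T)).ker = ⊥ := by
    rw [← Subgroup.normalCore_eq_ker]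
    exact hcore _ (Subgroup.normalCore_normal T)
      ((IsPGroup.of_card hT).to_le (Subgroup.normalCore_le T))
  have h := Subgroup.card_dvd_of_injective (MulAction.toPermHom X (X ⧸ T))
    ((MonoidHom.ker_eq_bot_iff _).1 hker)
  rw [Nat.card_perm, ← Subgroup.index_eq_card, hidx] at h
  rwa [show Nat.factorial 3 = 6 from rfl] at h

variable {G : Type u} [Group G] [Finite G] {M R P : Subgroup G}

theorem card_W_pow (h : OffenderHyp M R P) : ∃ k, Nat.card ↥(Wof R) = 2 ^ k := by
  have : Fact (Nat.Prime 2) := ⟨Nat.prime_two⟩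
  exact (h.R_pgroup.to_le (W_le R)).exists_card_eq

theorem exists_odd_prime_dvd (h : OffenderHyp M R P) : ∃ r : ℕ, r.Prime ∧ Odd r ∧ r ∣ Nat.card M := by
  have : Fact (Nat.Prime 2) := ⟨Nat.prime_two⟩
  by_contra hc
  push Not at hc
  apply h.offender
  have hM2 : IsPGroup 2 M := by
    obtain ⟨k, m, hm, hkm⟩ := Nat.exists_eq_two_pow_mul_odd (n := Nat.card M) Nat.card_pos.ne'
    have hm1 : m = 1 := by
      by_contra hne
      obtain ⟨r, hr, hrm⟩ := Nat.exists_prime_and_dvd hne
      exact hc r hr (hm.of_dvd_nat hrm) (hkm ▸ hrm.trans (dvd_mul_left _ _))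
    exact IsPGroup.of_card (n := k) (by rw [hkm, hm1, mul_one])
  exact (J_le P).trans (h.P_le.trans (h.R_max M le_rfl Subgroup.le_normalizer hM2))

theorem three_offender (hG : IsCIT G) (h : OffenderHyp M R P) {A : Subgroup G} (hA : MaxEA P A)
    (hAR : ¬ A ≤ R) (htwo : Nat.card A = 2 * Nat.card ↥(A ⊓ R)) : ThreeOffender M R P := by
  have : Fact (Nat.Prime 2) := ⟨Nat.prime_two⟩
  haveI := instNormal h
  obtain ⟨a, haA, haR⟩ := SetLike.not_le_iff_exists.1 hAR
  have haM : a ∈ M := h.P_le (hA.1 haA)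
  have hAsq : ∀ x ∈ A, x * x = 1 := fun x hx => isElementaryAbelian_two_sq hA.2.1 hx
  have hEpos : 0 < Nat.card ↥(A ⊓ R) := Nat.card_pos
  -- the order of W
  have hWle : Nat.card ↥(Wof R) ≤ 4 := by
    have hb := card_bound hG h hA hAR
    rw [htwo, mul_pow] at hb
    exact Nat.le_of_mul_le_mul_right hb (by positivity)
  obtain ⟨k, hk⟩ := card_W_pow h
  have hW2 : 2 ≤ Nat.card ↥(Wof R) := by
    have := (Subgroup.one_lt_card_iff_ne_bot (Wof R)).2 (W_ne_bot h)
    omega
  obtain ⟨r, hr, hro, hrM⟩ := exists_odd_prime_dvd h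
  have hrW := odd_dvd_card_W hG h hro hrM
  have hW : Nat.card ↥(Wof R) = 4 := by
    have hk2 : k ≤ 2 := by
      by_contra hlt
      have : 2 ^ 3 ≤ 2 ^ k := Nat.pow_le_pow_right (by norm_num) (by omega)
      omega
    interval_cases k
    · rw [pow_zero] at hk; omega
    · rw [pow_one] at hk
      rw [hk] at hrW
      exact absurd (Nat.dvd_one.1 hrW) hr.ne_one
    · exact hk
  have hr3 : r = 3 := (Nat.prime_dvd_prime_iff_eq hr Nat.prime_three).1 (by rw [hW] at hrW; exact hrW)
  -- the quotient has order six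
  have hodd3 : ∀ m, Odd m → m ∣ Nat.card M → m ∣ 3 := fun m hm hd => by
    have := odd_dvd_card_W hG h hm hd
    rwa [hW] at this
  let X := ↥M ⧸ R.subgroupOf M
  have hXM := card_quotient h
  have hXdvd : Nat.card X ∣ Nat.card M := ⟨_, hXM.symm⟩
  obtain ⟨c, m, hm, hcm⟩ := Nat.exists_eq_two_pow_mul_odd (n := Nat.card X) Nat.card_pos.ne'
  have h3X : 3 ∣ Nat.card X := by
    obtain ⟨i, hi⟩ := h.R_pgroup.exists_card_eq
    rw [hr3] at hrM
    refine (Nat.Coprime.pow_right i (show Nat.Coprime 3 2 by decide)).dvd_of_dvd_mul_right ?_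
    rw [← hi, hXM]
    exact hrM
  have hm3 : m = 3 := by
    rcases (Nat.dvd_prime Nat.prime_three).1 (hodd3 m hm ((hcm ▸ dvd_mul_left _ _ : m ∣ Nat.card X).trans hXdvd))
      with e | e
    · subst e
      rw [hcm, mul_one] at h3X
      exact absurd (Nat.prime_three.dvd_of_dvd_pow h3X) (by decide)
    · exact e
  subst hm3
  have hX6' := card_dvd_six hcm (fun N hN hN2 => quotient_core h N hN hN2)
  have ha2 : orderOf (QuotientGroup.mk' (R.subgroupOf M) ⟨a, haM⟩) = 2 :=
    orderOf_eq_prime (by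
      rw [← map_pow, pow_two, show (⟨a, haM⟩ : M) * ⟨a, haM⟩ = 1 from Subtype.ext (hAsq a haA), map_one])
      fun e => haR (mk_eq_one_iff.1 e)
  have hX6 : Nat.card X = 6 := by
    refine Nat.dvd_antisymm hX6' (Nat.Coprime.mul_dvd_of_dvd_of_dvd (m := 2) (n := 3) (by decide) ?_ h3X)
    rw [← ha2]
    exact orderOf_dvd_natCard _
  have hM6 : Nat.card M = 6 * Nat.card R := by rw [← hXM, ← hX6]
  have hP : Nat.card P = 2 * Nat.card R := by
    have h1 := card_mul_relIndex' (R_le_P h)
    have h2 := card_mul_relIndex' h.P_le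
    have h3 : R.relIndex P * P.relIndex M = 6 := by
      apply Nat.eq_of_mul_eq_mul_left (Nat.card_pos (α := R))
      rw [← mul_assoc, h1, h2, hM6, mul_comm]
    obtain ⟨j, hj⟩ := h.P_pgroup.exists_card_eq
    obtain ⟨i, -, hi⟩ := (Nat.dvd_prime_pow Nat.prime_two).1
      (hj ▸ (⟨_, (by rw [mul_comm]; exact h1.symm)⟩ : R.relIndex P ∣ Nat.card P))
    have hi1 : i = 1 := by
      rcases i with _ | _ | i
      · rw [hi, pow_zero, one_mul] at h3
        exact absurd h.P_odd (by rw [h3]; decide)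
      · rfl
      · rw [hi] at h3
        have h4 : 2 ^ (i + 1 + 1) ∣ 6 := ⟨_, h3.symm⟩
        have : 4 ∣ 6 := (dvd_trans ⟨2 ^ i, by ring⟩ h4)
        omega
    rw [← h1, hi, hi1, mul_comm, pow_one]
  -- an element of order three
  obtain ⟨⟨y, hy⟩, hy3⟩ := exists_prime_orderOf_dvd_card' (G := M) 3 (hr3 ▸ hrM)
  rw [Subgroup.orderOf_mk] at hy3
  have hyodd : Odd (orderOf y) := hy3 ▸ by decide
  have hy1 : y ≠ 1 := fun e => by rw [e, orderOf_one] at hy3; omega
  have hyR : y ∉ R := fun e => hy1 (eq_one_of_mem_R h e hyodd)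
  obtain ⟨t, ht, hayt⟩ : ∃ t ∈ R, a * y * a⁻¹ = y⁻¹ * t := by
    have hy3' : orderOf (QuotientGroup.mk' (R.subgroupOf M) ⟨y, hy⟩) = 3 :=
      orderOf_eq_prime (by
        rw [← map_pow, show (⟨y, hy⟩ : M) ^ 3 = 1 from Subtype.ext (by simp [← hy3, pow_orderOf_eq_one]), map_one])
        fun e => hyR (mk_eq_one_iff.1 e)
    set u := QuotientGroup.mk' (R.subgroupOf M) ⟨y, hy⟩ with hu
    set v := QuotientGroup.mk' (R.subgroupOf M) ⟨a, haM⟩ with hv
    haveI : (zpowers u).Normal := normal_of_index_eq_two (by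
      have h1 := Subgroup.index_mul_card (zpowers u)
      rw [Nat.card_zpowers, hy3', show Nat.card X = 6 from hX6] at h1
      omega)
    obtain ⟨n, hn⟩ := mem_powers_iff_mem_zpowers.2
      ((inferInstance : (zpowers u).Normal).conj_mem u (mem_zpowers u) v)
    have hn' : u ^ n = v * u * v⁻¹ := hn
    rw [← pow_mod_orderOf, hy3'] at hn'
    have hn3 : n % 3 < 3 := Nat.mod_lt _ (by norm_num)
    interval_cases hh : n % 3
    · rw [pow_zero] at hn'
      exact absurd (conj_eq_one_iff.1 hn'.symm) (fun e => by rw [e, orderOf_one] at hy3'; omega)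
    · rw [pow_one] at hn'
      exfalso
      apply hy1
      refine eq_one_of_commute_mod hG h haM (by rw [hAsq a haA]; exact one_mem R) haR hy hyodd ?_
      have h5 : QuotientGroup.mk' (R.subgroupOf M) ((⟨a, haM⟩ : M)⁻¹ * (⟨y, hy⟩ * ⟨a, haM⟩ * (⟨y, hy⟩ : M)⁻¹)) = 1 := by
        rw [map_mul, map_mul, map_mul, map_inv, map_inv, ← hu, ← hv,
          show u * v = v * u from (mul_inv_eq_iff_eq_mul.1 hn'.symm).symm]
        group
      exact mk_eq_one_iff.1 h5
    · refine ⟨y * (a * y * a⁻¹), ?_, by group⟩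
      have h5 : QuotientGroup.mk' (R.subgroupOf M) (⟨y, hy⟩ * (⟨a, haM⟩ * ⟨y, hy⟩ * (⟨a, haM⟩ : M)⁻¹)) = 1 := by
        rw [map_mul, map_mul, map_mul, map_inv, ← hu, ← hv, ← hn', ← pow_succ', show 2 + 1 = 3 from rfl, ← hy3', pow_orderOf_eq_one]
      exact mk_eq_one_iff.1 h5
  -- A ∩ R has order two
  set E := A ⊓ R with hE
  have hc2 : Nat.card ↥(E ⊓ Wof R) ≤ 2 := by
    have h2 := card_cent_sq_le hG h haM (hAsq a haA) haR
    rw [hW] at h2
    have h3 : Nat.card ↥(E ⊓ Wof R) ≤ Nat.card ↥(Wof R ⊓ centralizer ({a} : Set G)) :=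
      card_le_of_le fun x hx => ⟨hx.2, mem_centralizer_singleton_iff.2 (comm_of_sq hAsq hx.1.1 haA)⟩
    nlinarith
  have hsupE : ∀ B : Subgroup G, B ≤ R → (∀ x ∈ B, x * x = 1) → (∀ e ∈ E, ∀ b ∈ B, e * b = b * e) →
      Nat.card E * Nat.card B ≤ 2 * Nat.card E * Nat.card ↥(E ⊓ B) := by
    intro B hBR hBsq hcomm
    have hsup : IsElementaryAbelian 2 (E ⊔ B) :=
      PLocal.ThompsonSubgroup.IsElementaryAbelian.sup
        (isElementaryAbelian_two_of fun x hx => hAsq x hx.1) (isElementaryAbelian_two_of hBsq)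
        (fun e he => mem_centralizer_iff.2 fun b hb => (hcomm e he b hb).symm)
    have h1 := hA.2.2 _ (sup_le (inf_le_left.trans hA.1) (hBR.trans (R_le_P h))) hsup
    rw [htwo] at h1
    rw [← card_sup_mul_inf (le_normalizer_of_commute hcomm)]
    exact Nat.mul_le_mul_right _ h1
  have hEW : Nat.card ↥(E ⊓ Wof R) = 2 := by
    have h4 := hsupE (Wof R) (W_le R) (fun x hx => W_sq hx) fun e he w hw => W_cent hw he.2
    rw [hW] at h4
    have : 0 < Nat.card ↥(E ⊓ Wof R) := Nat.card_pos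
    nlinarith
  have hf : ∀ x ∈ E, y * x * y⁻¹ ∈ R := fun x hx => conj_mem_R h hy hx.2
  have hinv : ∀ x ∈ A, x⁻¹ = x := fun x hx => inv_eq_of_mul_eq_one_right (hAsq x hx)
  have hfsq : ∀ x ∈ E, (y * x * y⁻¹) * (y * x * y⁻¹) = 1 := fun x hx => by
    calc (y * x * y⁻¹) * (y * x * y⁻¹) = y * (x * x) * y⁻¹ := by group
      _ = 1 := by rw [hAsq x hx.1]; group
  have hff : ∀ x ∈ E, y * (y * x * y⁻¹) * y⁻¹ = x * (y * x * y⁻¹) := fun x hx => by
    rw [eq_inv_of_mul_eq_one_right (three_identity hG h hy hy3 hx.2), mul_inv_rev, hinv x hx.1,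
      inv_eq_of_mul_eq_one_right (hfsq x hx), three_commute hG h hy hy3 hx.2]
  have hcommE : ∀ p ∈ E, ∀ q ∈ E, p * (y * q * y⁻¹) = (y * q * y⁻¹) * p := by
    intro p hp q hq
    have hpq : p * q = q * p := comm_of_sq hAsq hp.1 hq.1
    set p' := y * p * y⁻¹ with hp'
    set q' := y * q * y⁻¹ with hq'
    have hp'q' : p' * q' = q' * p' := by
      calc p' * q' = y * (p * q) * y⁻¹ := by rw [hp', hq']; group
        _ = q' * p' := by rw [hpq, hp', hq']; group
    set κ := ⁅q, p'⁆ with hκ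
    set l := ⁅p, q'⁆ with hl
    have hκc : ∀ z ∈ R, z * κ = κ * z := fun z hz => commutator_central hG h hy hy3 hq.2 (hf p hp) hz
    have hlc : ∀ z ∈ R, z * l = l * z := fun z hz => commutator_central hG h hy hy3 hp.2 (hf q hq) hz
    have hκl : κ * l = 1 := by
      have e : p * q * (p' * q') = (p' * q') * (p * q) := by
        have := three_commute hG h hy hy3 (mul_mem hp.2 hq.2)
        rwa [show y * (p * q) * y⁻¹ = p' * q' by rw [hp', hq']; group] at this
      have e2 : p * q * (p' * q') = κ * l * ((p' * q') * (p * q)) := by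
        calc p * q * (p' * q') = p * (q * p') * q' := by group
          _ = p * (κ * (p' * q)) * q' := by rw [hκ, commutatorElement_def]; group
          _ = (p * κ) * p' * (q * q') := by group
          _ = (κ * p) * p' * (q' * q) := by
              rw [hκc p hp.2, three_commute hG h hy hy3 hq.2]
          _ = κ * (p * p') * (q' * q) := by group
          _ = κ * (p' * p) * (q' * q) := by rw [three_commute hG h hy hy3 hp.2]
          _ = κ * p' * (p * q') * q := by group
          _ = κ * p' * (l * (q' * p)) * q := by rw [hl, commutatorElement_def]; group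
          _ = κ * (p' * l) * q' * (p * q) := by group
          _ = κ * (l * p') * q' * (p * q) := by rw [hlc p' (hf p hp)]
          _ = _ := by group
      exact mul_eq_right.1 (e2.symm.trans e)
    have hl1 : l = 1 := by
      by_contra hne
      have hlR : l ∈ R := by
        rw [hl, commutatorElement_def]
        exact mul_mem (mul_mem (mul_mem hp.2 (hf q hq)) (inv_mem hp.2)) (inv_mem (hf q hq))
      have hfix : y * l * y⁻¹ = l := by
        have h6 : y * l * y⁻¹ = ⁅p', q * q'⁆ := by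
          rw [← hff q hq, hl, commutatorElement_def, commutatorElement_def, hp', hq']; group
        rw [h6]
        calc ⁅p', q * q'⁆ = ⁅p', q⁆ * (q * ⁅p', q'⁆ * q⁻¹) := by
              simp only [commutatorElement_def]; group
          _ = ⁅p', q⁆ := by rw [commutatorElement_eq_one_iff_mul_comm.2 hp'q']; group
          _ = κ⁻¹ := (commutatorElement_inv q p').symm
          _ = l := inv_eq_of_mul_eq_one_right hκl
      exact hy1 (eq_one_of_fixed hG h hlR hne hyodd (mul_inv_eq_iff_eq_mul.1 hfix))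
    exact commutatorElement_eq_one_iff_mul_comm.1 (hl ▸ hl1)
  have hI : E ⊓ cjg y E = ⊥ := by
    have hinv' : ∀ x ∈ E ⊓ cjg y E, y * x * y⁻¹ ∈ E := fun x hx => by
      obtain ⟨hxE, hx'⟩ := mem_inf.1 hx
      rw [mem_cjg] at hx'
      have e := hff _ hx'
      rw [show y * (y⁻¹ * x * y) * y⁻¹ = x by group] at e
      rw [e]
      exact mul_mem hx' hxE
    have hcen : ∀ x ∈ E ⊓ cjg y E, y * x * y⁻¹ ∈ Wof R := fun x hx => by
      have hxE : x ∈ E := (mem_inf.1 hx).1
      refine mem_W.2 ⟨hf x hxE, fun z hz => ?_, hfsq x hxE⟩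
      have e1 : a * (y * x * y⁻¹) * a⁻¹ = y * x * y⁻¹ := by
        rw [comm_of_sq hAsq haA (hinv' x hx).1]; group
      have e2 : a * (y * x * y⁻¹) * a⁻¹ = y⁻¹ * (t * x * t⁻¹) * y := by
        calc a * (y * x * y⁻¹) * a⁻¹ = (a * y * a⁻¹) * (a * x * a⁻¹) * (a * y * a⁻¹)⁻¹ := by group
          _ = _ := by rw [hayt, comm_of_sq hAsq haA hxE.1]; group
      have e3 : ⁅t, x⁆ = y * x * y⁻¹ := by
        have e4 : t * x * t⁻¹ = y * (y * x * y⁻¹) * y⁻¹ := by
          calc t * x * t⁻¹ = y * (y⁻¹ * (t * x * t⁻¹) * y) * y⁻¹ := by group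
            _ = _ := by rw [← e2, e1]
        rw [commutatorElement_def, e4, hff x hxE, three_commute hG h hy hy3 hxE.2, mul_assoc,
          mul_inv_cancel, mul_one]
      rw [← e3]
      exact commutator_central hG h hy hy3 ht hxE.2 hz
    rw [eq_bot_iff]
    intro x hx
    rw [mem_bot]
    by_contra hx1
    have hxI := hx
    -- the image of `x` is again in the intersection
    have hyx : y * x * y⁻¹ ∈ E ⊓ cjg y E := ⟨hinv' x hx, conj_mem_cjg (mem_inf.1 hx).1⟩
    have h1 : y * x * y⁻¹ ∈ E ⊓ Wof R := ⟨hinv' x hx, hcen x hx⟩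
    have h2 : y * (y * x * y⁻¹) * y⁻¹ ∈ E ⊓ Wof R := ⟨hinv' _ hyx, hcen _ hyx⟩
    have hne1 : y * x * y⁻¹ ≠ 1 := fun e => hx1 (conj_eq_one_iff.1 e)
    have hne2 : y * (y * x * y⁻¹) * y⁻¹ ≠ 1 := fun e => hne1 (conj_eq_one_iff.1 e)
    have heq : y * (y * x * y⁻¹) * y⁻¹ = y * x * y⁻¹ := by
      by_contra hne
      let f : Fin 3 → ↥(E ⊓ Wof R) := ![1, ⟨_, h1⟩, ⟨_, h2⟩]
      have hfi : Function.Injective f := by
        intro i j hij
        have hij' : ((f i : ↥(E ⊓ Wof R)) : G) = (f j : ↥(E ⊓ Wof R)) := congrArg Subtype.val hij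
        fin_cases i <;> fin_cases j <;>
          first | rfl | exact absurd hij' (by simp [f, Ne.symm hne1, Ne.symm hne2, hne1, hne2, hne, Ne.symm hne])
      have := Nat.card_le_card_of_injective f hfi
      rw [hEW, Nat.card_fin] at this
      omega
    exact hy1 (eq_one_of_fixed hG h (hf x (mem_inf.1 hxI).1) hne1 hyodd (mul_inv_eq_iff_eq_mul.1 heq))
  have hE2 : Nat.card E = 2 := by
    have h6 := hsupE (cjg y E) (fun z hz => by obtain ⟨x, hx, rfl⟩ := hz; exact hf x hx)
      (fun z hz => by obtain ⟨x, hx, rfl⟩ := hz; exact hfsq x hx)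
      (fun p hp z hz => by obtain ⟨q, hq, rfl⟩ := hz; exact hcommE p hp q hq)
    rw [hI, card_bot, mul_one, card_cjg] at h6
    have h7 : Nat.card ↥(E ⊓ Wof R) ≤ Nat.card E := card_le_of_le inf_le_left
    nlinarith
  have hA4 : Nat.card A = 4 := by rw [htwo, hE2]
  have hle4 : ∀ B : Subgroup G, B ≤ P → (∀ x ∈ B, x * x = 1) → Nat.card B ≤ 4 := fun B hB hs =>
    (hA.2.2 B hB (isElementaryAbelian_two_of hs)).trans_eq hA4
  exact
    { card_M := hM6
      R_le_P := R_le_P h
      card_P := hP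
      W_card := hW
      W_le := W_le R
      W_sq := fun x hx => W_sq hx
      W_cent := fun x hx r hr => (W_cent hx hr).symm
      W_normal := W_normal h
      cent_W := cent_W hG h
      involutions := fun x hx hx2 => by
        have hsup : IsElementaryAbelian 2 (zpowers x ⊔ Wof R) :=
          PLocal.ThompsonSubgroup.IsElementaryAbelian.sup
            (PLocal.ThompsonSubgroup.isElementaryAbelian_zpowers (by rw [pow_two]; exact hx2))
            (isElementaryAbelian_two_of fun z hz => W_sq hz)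
            ((zpowers_le.2 (mem_centralizer_iff.2 fun w hw => (W_cent hw hx).symm)))
        have hle := (hA.2.2 _ (sup_le (zpowers_le.2 (R_le_P h hx)) ((W_le R).trans (R_le_P h))) hsup).trans_eq hA4
        have heq := eq_of_le_of_card_ge (le_sup_right (a := zpowers x)) (hle.trans_eq hW.symm)
        rw [show Cfsg.omegaCenterOf R = Wof R from rfl, heq]
        exact mem_sup_left (mem_zpowers x)
      elem_le := hle4
      four := ⟨A, hA.1, hAsq, hA4, hAR⟩ }

end Cfsg.Agent.CIT.Offender
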